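import Mathlib

/-!
The group of order 108: even triples of permutations of three letters; some integer valued
class functions on it and their sums.
-/

set_option autoImplicit false

namespace Cfsg.Agent.Lib.Higman3

open Equiv

/-- Triples of permutations of three letters. -/
abbrev Tri : Type := Perm (Fin 3) × Perm (Fin 3) × Perm (Fin 3)

/-- A coordinate of a triple. -/
def co (i : Fin 3) (σ : Tri) : Perm (Fin 3) :=
  if i = 0 then σ.1 else if i = 1 then σ.2.1 else σ.2.2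

/-- The sign of a coordinate. -/
def sg (i : Fin 3) (σ : Tri) : ℤ := (Perm.sign (co i σ) : ℤ)

/-- Fixed points of a coordinate, less one. -/
def th (i : Fin 3) (σ : Tri) : ℤ :=
  (((Finset.univ : Finset (Fin 3)).filter fun x => co i σ x = x).card : ℤ) - 1

/-- The even triples. -/
def evenSet : Finset Tri := Finset.univ.filter fun σ => sg 0 σ * sg 1 σ * sg 2 σ = 1

/-- The functions `A_i`. -/
def fA (i : Fin 3) (σ : Tri) : ℤ := 1 + sg i σ - th i σ

/-- The functions `C_i`. -/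
def fC (i : Fin 3) (σ : Tri) : ℤ := sg (i + 1) σ + sg (i + 2) σ - th i σ * sg (i + 1) σ

/-- The function `B`. -/
def fB (σ : Tri) : ℤ := 1 + sg 0 σ + sg 1 σ + sg 2 σ - th 0 σ * th 1 σ

/-- The function `Φ`. -/
def fP (σ : Tri) : ℤ := th 0 σ * th 1 σ - th 0 σ * th 2 σ

/-- The supports avoid elements whose square is trivial. -/
theorem vanish : ∀ σ ∈ evenSet, σ * σ = 1 →
    (∀ i, fA i σ = 0) ∧ (∀ i, fC i σ = 0) ∧ fB σ = 0 ∧ fP σ = 0 := by decide +kernel

theorem gram_A : ∀ i j, ∑ σ ∈ evenSet, fA i σ * fA j σ = 108 * (if i = j then 3 else 1) := by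
  decide +kernel

theorem sum_A : ∀ i, ∑ σ ∈ evenSet, fA i σ = 108 := by decide +kernel

theorem sum_C : ∀ i, ∑ σ ∈ evenSet, fC i σ = 0 := by decide +kernel

theorem sum_B : ∑ σ ∈ evenSet, fB σ = 108 := by decide +kernel

theorem sum_P : ∑ σ ∈ evenSet, fP σ = 0 := by decide +kernel

theorem gram_BA : ∀ i, ∑ σ ∈ evenSet, fB σ * fA i σ = 108 * 2 := by decide +kernel

theorem gram_BB : ∑ σ ∈ evenSet, fB σ * fB σ = 108 * 5 := by decide +kernel

theorem gram_PP : ∑ σ ∈ evenSet, fP σ * fP σ = 108 * 2 := by decide +kernel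

theorem gram_PA : ∀ i, ∑ σ ∈ evenSet, fP σ * fA i σ = 0 := by decide +kernel

theorem gram_PB : ∑ σ ∈ evenSet, fP σ * fB σ = -108 := by decide +kernel

theorem gram_CC : ∀ i, ∑ σ ∈ evenSet, fC i σ * fC i σ = 108 * 3 := by decide +kernel

theorem gram_CA : ∀ i j, ∑ σ ∈ evenSet, fC i σ * fA j σ = 108 * (if i = j then 0 else 1) := by
  decide +kernel

theorem gram_CB : ∀ i, ∑ σ ∈ evenSet, fC i σ * fB σ = 108 * 2 := by decide +kernel

theorem gram_CP : ∀ i, ∑ σ ∈ evenSet, fC i σ * fP σ = 0 := by decide +kernel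

/-- The involutions with trivial coordinate in `S`. -/
def invSet (S : Finset (Fin 3)) : Finset Tri :=
  evenSet.filter fun σ => σ ≠ 1 ∧ σ * σ = 1 ∧ ∃ i ∈ S, co i σ = 1

/-- The sum of the linear functions over `S`: index `0` for the trivial one. -/
def hval (S : Finset (Fin 3)) (i : Fin 3) : ℤ := ∑ c ∈ S, if i = c then 1 else -1

theorem pair_sum_A : ∀ S : Finset (Fin 3), ∀ i,
    2 * ∑ u ∈ invSet S, ∑ v ∈ invSet S, fA i (u * v) = 81 * ((S.card : ℤ) - hval S i) ^ 2 := by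
  decide +kernel

theorem pair_sum_C : ∀ S : Finset (Fin 3), ∀ i,
    2 * ∑ u ∈ invSet S, ∑ v ∈ invSet S, fC i (u * v) =
      81 * (hval S (i + 1) - hval S (i + 2)) ^ 2 := by
  decide +kernel

theorem pair_sum_B : ∀ S : Finset (Fin 3),
    4 * ∑ u ∈ invSet S, ∑ v ∈ invSet S, fB (u * v) =
      81 * (4 * ((S.card : ℤ) ^ 2 + hval S 0 ^ 2 + hval S 1 ^ 2 + hval S 2 ^ 2)
        - ((S.card : ℤ) + hval S 0 + hval S 1 + hval S 2) ^ 2) := by
  decide +kernel

theorem isConj_invSet : ∀ i : Fin 3, ∀ σ ∈ invSet {i}, ∀ τ ∈ invSet {i},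
    ∃ γ ∈ evenSet, γ * σ = τ * γ := by
  decide +kernel

theorem exists_co_one : ∀ σ ∈ evenSet, σ ≠ 1 → σ * σ = 1 →
    ∃ i, co i σ = 1 ∧ ∀ j, co j σ = 1 → j = i := by
  decide +kernel

theorem sixth_power : ∀ σ ∈ evenSet, σ ^ 6 = 1 := by decide +kernel

end Cfsg.Agent.Lib.Higman3
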