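import Mathlib
import Cfsg.Agent.Lib.Higman3.Model

/-!
The rational equations coming from pairs of conjugate involutions force the shared characters to be
linear.
-/

set_option autoImplicit false

namespace Cfsg.Agent.Lib.Higman3

theorem pair_eq {a b x y R : ℚ} (hx : x ≠ 0) (hy : y ≠ 0) (hxy : x + y ≠ 0)
    (h : a ^ 2 / x + b ^ 2 / y - (a + b) ^ 2 / (x + y) = R) :
    (a * y - b * x) ^ 2 = R * (x * y * (x + y)) := by
  subst h
  field_simp
  ring

/-- The equations for one class of involutions. -/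
structure InvEqs (S : Finset (Fin 3)) (κ : ℚ) (x u : Fin 3 → ℚ) : Prop where
  pos : 0 < κ
  x_ne : ∀ i, x i ≠ 0
  one_add : ∀ i, 1 + x i ≠ 0
  add_ne : ∀ i, x (i + 1) + x (i + 2) ≠ 0
  sum_ne : 1 + (x 0 + x 1 + x 2) ≠ 0
  A : ∀ i, 1 + u i ^ 2 / x i - (1 + u i) ^ 2 / (1 + x i) =
    κ / 2 * ((S.card : ℚ) - hval S i) ^ 2
  C : ∀ i, u (i + 1) ^ 2 / x (i + 1) + u (i + 2) ^ 2 / x (i + 2) -
      (u (i + 1) + u (i + 2)) ^ 2 / (x (i + 1) + x (i + 2)) =
    κ / 2 * ((hval S (i + 1) : ℚ) - hval S (i + 2)) ^ 2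
  B : 1 + (u 0 ^ 2 / x 0 + u 1 ^ 2 / x 1 + u 2 ^ 2 / x 2) -
      (1 + (u 0 + u 1 + u 2)) ^ 2 / (1 + (x 0 + x 1 + x 2)) =
    κ / 4 * (4 * ((S.card : ℚ) ^ 2 + (hval S 0 : ℚ) ^ 2 + (hval S 1 : ℚ) ^ 2 + (hval S 2 : ℚ) ^ 2)
      - ((S.card : ℚ) + hval S 0 + hval S 1 + hval S 2) ^ 2)

theorem fin_add : ∀ c i : Fin 3, c + 2 + 1 = c ∧ c + 2 + 2 = c + 1 ∧ c + 1 + 1 = c + 2 ∧
    c + 1 + 2 = c ∧ (i = c ∨ i = c + 1 ∨ i = c + 2) := by decide

theorem hval_single : ∀ c : Fin 3, hval {c} c = 1 ∧ hval {c} (c + 1) = -1 := by decide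

theorem hval_two : ∀ d : Fin 3, hval {d + 1, d + 2} d = -2 ∧ hval {d + 1, d + 2} (d + 1) = 0 ∧
    hval {d + 1, d + 2} (d + 2) = 0 ∧ ({d + 1, d + 2} : Finset (Fin 3)).card = 2 := by decide

theorem hval_univ : ∀ i : Fin 3, hval Finset.univ i = -1 := by decide

theorem exists_ne_hval : ∀ S : Finset (Fin 3), S.Nonempty → ∃ i, (S.card : ℤ) - hval S i ≠ 0 := by
  decide

variable {S : Finset (Fin 3)} {κ : ℚ} {x u : Fin 3 → ℚ}

theorem InvEqs.pairA (h : InvEqs S κ x u) (i : Fin 3) :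
    (x i - u i) ^ 2 = κ / 2 * ((S.card : ℚ) - hval S i) ^ 2 * (x i * (1 + x i)) := by
  have h' := h.A i
  have e : (1 : ℚ) = 1 ^ 2 / 1 := by norm_num
  have := pair_eq (a := 1) (b := u i) one_ne_zero (h.x_ne i) (h.one_add i)
    (R := κ / 2 * ((S.card : ℚ) - hval S i) ^ 2) (by rw [← e]; exact h')
  linear_combination this

theorem InvEqs.pairC (h : InvEqs S κ x u) (i : Fin 3) :
    (u (i + 1) * x (i + 2) - u (i + 2) * x (i + 1)) ^ 2 =
      κ / 2 * ((hval S (i + 1) : ℚ) - hval S (i + 2)) ^ 2 *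
        (x (i + 1) * x (i + 2) * (x (i + 1) + x (i + 2))) :=
  pair_eq (h.x_ne _) (h.x_ne _) (h.add_ne i) (h.C i)

/-- A class meeting `H` in one class. -/
theorem InvEqs.singleton {c : Fin 3} (h : InvEqs {c} κ x u) : x c = 1 := by
  obtain ⟨hc, hj⟩ := hval_single c
  have h1 := h.pairA c
  have h2 := h.pairA (c + 1)
  have h3 := h.pairC (c + 2)
  rw [(fin_add c 0).1, (fin_add c 0).2.1] at h3
  rw [Finset.card_singleton, hc] at h1
  rw [Finset.card_singleton, hj] at h2
  rw [hc, hj] at h3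
  norm_num at h1 h2 h3
  have e : u c = x c := by linarith
  rw [e] at h3
  have h4 : κ * (x c * x (c + 1)) * (x c * (1 + x (c + 1)) - (x c + x (c + 1))) = 0 := by
    linear_combination (1 / 2 : ℚ) * h3 - (x c ^ 2 / 2) * h2
  have hne : κ * (x c * x (c + 1)) ≠ 0 :=
    mul_ne_zero h.pos.ne' (mul_ne_zero (h.x_ne _) (h.x_ne _))
  have h5 := (mul_eq_zero.1 h4).resolve_left hne
  have h6 : x (c + 1) * (x c - 1) = 0 := by linear_combination h5
  exact sub_eq_zero.1 ((mul_eq_zero.1 h6).resolve_left (h.x_ne _))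

/-- A class containing all three classes of `H`. -/
theorem InvEqs.triple (h : InvEqs Finset.univ κ x u) (i : Fin 3) : x i = 1 := by
  have hp : ∀ a b : Fin 3, u a * x b = u b * x a := by
    intro a b
    have key : ∀ k : Fin 3, u (k + 1) * x (k + 2) = u (k + 2) * x (k + 1) := fun k => by
      have := h.pairC k
      rw [hval_univ, hval_univ] at this
      norm_num at this
      linarith
    have k0 : u 1 * x 2 = u 2 * x 1 := key 0
    have k1 : u 2 * x 0 = u 0 * x 2 := key 1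
    have k2 : u 0 * x 1 = u 1 * x 0 := key 2
    fin_cases a <;> fin_cases b <;>
      first | rfl | assumption | exact k0.symm | exact k1.symm | exact k2.symm
  set r := u 0 / x 0 with hr
  have hu : ∀ k, u k = r * x k := fun k => by
    rw [hr, div_mul_eq_mul_div, eq_div_iff (h.x_ne 0), hp k 0]
  have hA : ∀ k, (1 - r) ^ 2 * x k = 8 * κ * (1 + x k) := fun k => by
    have := h.pairA k
    rw [hval_univ, hu] at this
    norm_num at this
    exact mul_left_cancel₀ (h.x_ne k) (by linear_combination this)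
  have hB := h.B
  rw [hu 0, hu 1, hu 2, hval_univ, hval_univ, hval_univ] at hB
  have hx0 := h.x_ne 0
  have hx1 := h.x_ne 1
  have hx2 := h.x_ne 2
  have hs := h.sum_ne
  field_simp at hB
  norm_num at hB
  have hB' : (1 - r) ^ 2 * (x 0 + x 1 + x 2) = 12 * κ * (1 + (x 0 + x 1 + x 2)) := by
    linarith
  have hsum := hA 0
  have hsum1 := hA 1
  have hsum2 := hA 2
  have hX : x 0 + x 1 + x 2 = 3 := by
    have : 4 * κ * (x 0 + x 1 + x 2 - 3) = 0 := by linear_combination hsum + hsum1 + hsum2 - hB'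
    have := (mul_eq_zero.1 this).resolve_left (by have := h.pos; positivity)
    linarith
  have hP : (1 - r) ^ 2 = 16 * κ := by
    rw [hX] at hB'; linarith
  have := hA i
  rw [hP] at this
  have h' : 8 * κ * (x i - 1) = 0 := by linear_combination this
  have := (mul_eq_zero.1 h').resolve_left (by have := h.pos; positivity)
  linarith

/-- A class containing two of the three classes, the third one being linear. -/
theorem InvEqs.double {d : Fin 3} (h : InvEqs {d + 1, d + 2} κ x u) (hd : x d = 1)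
    (hd' : u d * u d = 1) (i : Fin 3) : x i = 1 := by
  obtain ⟨v0, v1, v2, vc⟩ := hval_two d
  have h0 := h.pairA d
  have h1 := h.pairA (d + 1)
  have h2 := h.pairA (d + 2)
  have c1 := h.pairC (d + 2)
  have c2 := h.pairC (d + 1)
  rw [(fin_add d 0).1, (fin_add d 0).2.1] at c1
  rw [(fin_add d 0).2.2.1, (fin_add d 0).2.2.2.1] at c2
  rw [vc, v0, hd] at h0
  rw [vc, v1] at h1
  rw [vc, v2] at h2
  rw [v0, v1, hd] at c1
  rw [v0, v2, hd] at c2
  norm_num at h0 h1 h2 c1 c2
  have hu : u d = -1 := by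
    rcases mul_self_eq_one_iff.1 hd' with e | e
    · exfalso; rw [e] at h0; have := h.pos; norm_num at h0; linarith
    · exact e
  rw [hu] at h0 c1 c2
  have hκ : κ = 1 / 4 := by linarith
  subst hκ
  have g1 : x (d + 1) = 1 := by
    have hu0 : x (d + 1) * u (d + 1) = 0 := by linear_combination (1 / 4 : ℚ) * c1 - (1 / 4 : ℚ) * h1
    rw [(mul_eq_zero.1 hu0).resolve_left (h.x_ne _)] at h1
    have := mul_left_cancel₀ (h.x_ne (d + 1))
      (show x (d + 1) * x (d + 1) = x (d + 1) * ((1 + x (d + 1)) / 2) by linear_combination h1)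
    linarith
  have g2 : x (d + 2) = 1 := by
    have hu0 : x (d + 2) * u (d + 2) = 0 := by linear_combination (1 / 4 : ℚ) * c2 - (1 / 4 : ℚ) * h2
    rw [(mul_eq_zero.1 hu0).resolve_left (h.x_ne _)] at h2
    have := mul_left_cancel₀ (h.x_ne (d + 2))
      (show x (d + 2) * x (d + 2) = x (d + 2) * ((1 + x (d + 2)) / 2) by linear_combination h2)
    linarith
  rcases (fin_add d i).2.2.2.2 with e | e | e <;> rw [e] <;>
    assumption

/-- Linear characters: one of them is nontrivial on the class. -/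
theorem InvEqs.exists_ne_one (h : InvEqs S κ x u) (hS : S.Nonempty) (hx : ∀ i, x i = 1) :
    ∃ i, u i ≠ 1 := by
  obtain ⟨i, hi⟩ := exists_ne_hval S hS
  refine ⟨i, fun e => ?_⟩
  have := h.pairA i
  rw [hx, e] at this
  norm_num at this
  rcases this with hk | hk
  · exact h.pos.ne' hk
  · exact hi (by exact_mod_cast hk)

end Cfsg.Agent.Lib.Higman3
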