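import Mathlib
import Cfsg.Agent.Lib.Chars.Induced
import Cfsg.Agent.Lib.Chars.Completeness
import Cfsg.Agent.Lib.Chars.Ops

/-!
Induction from a subgroup controlling a trivial intersection subset; products of two
involutions.
-/

set_option autoImplicit false

namespace Cfsg.Agent.Lib.Higman3

open Cfsg Cfsg.Agent.Lib
open scoped ComplexConjugate

variable {G : Type*} [Group G] [Fintype G]

/-- `X` is a subset of `H`, closed under inverses, fused only by elements of `H`. -/
structure ControlledSet (H : Subgroup G) (X : Set G) : Prop where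
  subset : X ⊆ H
  inv_mem : ∀ a ∈ X, a⁻¹ ∈ X
  fusion : ∀ a ∈ X, ∀ g : G, g * a * g⁻¹ ∈ X → g ∈ H

/-- `φ` vanishes outside `X`. -/
def Supported {H : Subgroup G} (X : Set G) (φ : H → ℂ) : Prop := ∀ h : H, (h : G) ∉ X → φ h = 0

variable {H : Subgroup G} {X : Set G}

theorem indFun_eq (hX : ControlledSet H X) {φ : H → ℂ} (hφ : IsClassFunction H φ)
    (hs : Supported X φ) {a : H} (ha : (a : G) ∈ X) : indFun H φ a = φ a := by
  classical
  have key : ∀ x : G, extendByZero H φ (x⁻¹ * a * x) = if x ∈ H then φ a else 0 := by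
    intro x
    split
    · next hx =>
      have hm : x⁻¹ * (a : G) * x ∈ H := H.mul_mem (H.mul_mem (H.inv_mem hx) a.2) hx
      rw [Chars.extendByZero_of_mem _ hm]
      exact Chars.isClassFunction_apply_eq hφ
        (isConj_iff.mpr ⟨⟨x, hx⟩⁻¹, Subtype.ext (by simp)⟩)
    · next hx =>
      by_cases hm : x⁻¹ * (a : G) * x ∈ H
      · rw [Chars.extendByZero_of_mem _ hm]
        refine hs _ fun hX' => hx ?_
        have := hX.fusion _ ha x⁻¹ (by rw [inv_inv]; exact hX')
        simpa using H.inv_mem this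
      · exact Chars.extendByZero_of_not_mem _ hm
  simp only [indFun, key]
  rw [← Finset.sum_filter, Finset.sum_const, nsmul_eq_mul, ← Fintype.card_subtype,
    Fintype.card_eq_nat_card]
  exact inv_mul_cancel_left₀ (Nat.cast_ne_zero.mpr Nat.card_pos.ne') _

theorem indFun_eq_zero {φ : H → ℂ} (hs : Supported X φ) {g : G}
    (hg : ∀ x : G, x⁻¹ * g * x ∉ X) : indFun H φ g = 0 := by
  simp only [indFun]
  refine mul_eq_zero_of_right _ (Finset.sum_eq_zero fun x _ => ?_)
  by_cases hm : x⁻¹ * g * x ∈ H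
  · rw [Chars.extendByZero_of_mem _ hm]; exact hs _ (hg x)
  · exact Chars.extendByZero_of_not_mem _ hm

theorem classInner_indFun [Fintype H] (hX : ControlledSet H X) {φ η : H → ℂ}
    (hη : IsClassFunction H η) (hφs : Supported X φ) (hηs : Supported X η) :
    classInner (indFun H φ) (indFun H η) = classInner φ η := by
  rw [Chars.classInner_indFun_left _ _ _ (Chars.isClassFunction_indFun _ _)]
  simp only [classInner]
  congr 1
  refine Finset.sum_congr rfl fun x _ => ?_
  by_cases hx : (x : G) ∈ X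
  · rw [indFun_eq hX hη hηs hx]
  · rw [hφs x hx, zero_mul, zero_mul]

/-- Products of two elements from a normal set of involutions. -/
theorem sum_pairs_indFun [Fintype H] [DecidableEq G] (hX : ControlledSet H X) {φ : H → ℂ}
    (hs : Supported X φ) (K : Finset G) (hK : ∀ u ∈ K, ∀ x : G, x * u * x⁻¹ ∈ K)
    (hinvol : ∀ u ∈ K, u * u = 1) (KH : Finset H) (hKH : ∀ h : H, h ∈ KH ↔ (h : G) ∈ K) :
    ∑ u ∈ K, ∑ v ∈ K, indFun H φ (u * v) =
      (Nat.card G : ℂ) / (Nat.card H : ℂ) * ∑ u ∈ KH, ∑ v ∈ KH, φ (u * v) := by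
  classical
  have hconj : ∀ x : G, ∀ F : G → ℂ, ∑ u ∈ K, F (x⁻¹ * u * x) = ∑ u ∈ K, F u := fun x F =>
    Finset.sum_nbij' (fun u => x⁻¹ * u * x) (fun u => x * u * x⁻¹)
      (fun u hu => by simpa using hK u hu x⁻¹) (fun u hu => hK u hu x)
      (fun u _ => by group) (fun u _ => by group) (fun u _ => rfl)
  have h1 : ∑ u ∈ K, ∑ v ∈ K, indFun H φ (u * v) =
      (Nat.card G : ℂ) / (Nat.card H : ℂ) * ∑ u ∈ K, ∑ v ∈ K, extendByZero H φ (u * v) := by
    have h0 : ∀ x : G, ∑ u ∈ K, ∑ v ∈ K, extendByZero H φ (x⁻¹ * (u * v) * x) =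
        ∑ u ∈ K, ∑ v ∈ K, extendByZero H φ (u * v) := fun x => by
      calc ∑ u ∈ K, ∑ v ∈ K, extendByZero H φ (x⁻¹ * (u * v) * x)
          = ∑ u ∈ K, ∑ v ∈ K, extendByZero H φ (x⁻¹ * u * x * (x⁻¹ * v * x)) := by
            refine Finset.sum_congr rfl fun u _ => Finset.sum_congr rfl fun v _ => ?_
            congr 1; group
        _ = ∑ u ∈ K, ∑ v ∈ K, extendByZero H φ (x⁻¹ * u * x * v) :=
            Finset.sum_congr rfl fun u _ => hconj x fun v => extendByZero H φ (x⁻¹ * u * x * v)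
        _ = ∑ u ∈ K, ∑ v ∈ K, extendByZero H φ (u * v) :=
            hconj x fun u => ∑ v ∈ K, extendByZero H φ (u * v)
    simp only [indFun, ← Finset.mul_sum]
    rw [Finset.sum_congr rfl fun u _ => Finset.sum_comm, Finset.sum_comm,
      Finset.sum_congr rfl fun x _ => h0 x, Finset.sum_const, Finset.card_univ, nsmul_eq_mul,
      ← Nat.card_eq_fintype_card, div_eq_mul_inv]
    ring
  rw [h1]
  congr 1
  have hmem : ∀ u ∈ K, ∀ v ∈ K, extendByZero H φ (u * v) ≠ 0 → u ∈ H ∧ v ∈ H := by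
    intro u hu v hv hne
    by_cases hm : u * v ∈ H
    swap
    · exact absurd (Chars.extendByZero_of_not_mem _ hm) hne
    rw [Chars.extendByZero_of_mem _ hm] at hne
    have hX' : u * v ∈ X := by
      by_contra h; exact hne (hs ⟨u * v, hm⟩ h)
    have huH : u ∈ H := by
      refine hX.fusion _ hX' u ?_
      have : u * (u * v) * u⁻¹ = (u * v)⁻¹ := by
        rw [mul_inv_rev, inv_eq_of_mul_eq_one_left (hinvol u hu),
          inv_eq_of_mul_eq_one_left (hinvol v hv), ← mul_assoc, hinvol u hu, one_mul]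
      rw [this]; exact hX.inv_mem _ hX'
    refine ⟨huH, ?_⟩
    have := H.mul_mem (H.inv_mem huH) hm
    rwa [inv_mul_cancel_left] at this
  have hsub : KH.map ⟨Subtype.val, Subtype.val_injective⟩ ⊆ K := by
    intro g hg
    obtain ⟨h, hh, rfl⟩ := Finset.mem_map.1 hg
    exact (hKH h).1 hh
  symm
  calc ∑ u ∈ KH, ∑ v ∈ KH, φ (u * v)
      = ∑ u ∈ KH.map ⟨Subtype.val, Subtype.val_injective⟩,
          ∑ v ∈ KH.map ⟨Subtype.val, Subtype.val_injective⟩, extendByZero H φ (u * v) := by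
        simp only [Finset.sum_map, Function.Embedding.coeFn_mk, ← Subgroup.coe_mul,
          Chars.extendByZero_coe]
    _ = ∑ u ∈ K, ∑ v ∈ KH.map ⟨Subtype.val, Subtype.val_injective⟩, extendByZero H φ (u * v) := by
        refine Finset.sum_subset hsub fun u hu hu' => Finset.sum_eq_zero fun v hv => ?_
        by_contra hne
        have huH := (hmem u hu v (hsub hv) hne).1
        exact hu' (Finset.mem_map.2 ⟨⟨u, huH⟩, (hKH _).2 hu, rfl⟩)
    _ = _ := Finset.sum_congr rfl fun u hu => Finset.sum_subset hsub fun v hv hv' => by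
        by_contra hne
        exact hv' (Finset.mem_map.2 ⟨⟨v, (hmem u hu v hv hne).2⟩, (hKH _).2 hv, rfl⟩)

/-- An irreducible character on products of two elements of a normal set. -/
theorem sum_pairs_irr (χ : IrrCharacter G) (K : Finset G) (hK : ∀ u ∈ K, ∀ x : G, x * u * x⁻¹ ∈ K) :
    ∑ u ∈ K, ∑ v ∈ K, (χ : G → ℂ) (u * v) =
      (∑ u ∈ K, (χ : G → ℂ) u) ^ 2 / (χ : G → ℂ) 1 := by
  classical
  obtain ⟨n, ρ, hρ, hχ⟩ := Chars.irr_exists_rep χ
  haveI := hρ
  set T : Module.End ℂ (Fin n → ℂ) := ∑ u ∈ K, ρ u with hT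
  have hcomm : ∀ h : G, T ∘ₗ ρ h = ρ h ∘ₗ T := fun h => by
    simp only [hT, ← Module.End.mul_eq_comp, Finset.sum_mul, Finset.mul_sum, ← map_mul]
    exact Finset.sum_nbij' (fun u => h⁻¹ * u * h) (fun u => h * u * h⁻¹)
      (fun u hu => by simpa using hK u hu h⁻¹) (fun u hu => hK u hu h)
      (fun u _ => by group) (fun u _ => by group) (fun u _ => by congr 1; group)
  obtain ⟨c, hc⟩ := Chars.exists_scalar_of_commute ρ T hcomm
  have h1 : ∑ u ∈ K, (χ : G → ℂ) u = c * (χ : G → ℂ) 1 := by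
    rw [← hχ]
    simp only [Representation.character]
    rw [← map_sum, ← hT, hc, map_smul, map_one ρ, smul_eq_mul]
  have h2 : ∑ u ∈ K, ∑ v ∈ K, (χ : G → ℂ) (u * v) = c * c * (χ : G → ℂ) 1 := by
    rw [← hχ]
    simp only [Representation.character, map_mul, ← map_sum, ← Finset.mul_sum, ← Finset.sum_mul, ← hT,
      hc, map_one, smul_mul_assoc, mul_smul_comm, mul_one, one_mul, smul_smul, map_smul, smul_eq_mul]
    ring
  rw [h2, h1, eq_div_iff (Chars.irr_apply_one_ne_zero χ)]
  ring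

end Cfsg.Agent.Lib.Higman3
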