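import Mathlib

/-!
Integer vectors with the Gram matrix of the functions `A_i`, `C_i`, `B`, `Φ`: the units which
they share.
-/

set_option autoImplicit false

namespace Cfsg.Agent.Lib.Higman3

variable {ι : Type*} [Fintype ι]

/-- The pairing of two integer vectors. -/
def idot (v w : ι → ℤ) : ℤ := ∑ x, v x * w x

theorem idot_comm (v w : ι → ℤ) : idot v w = idot w v := by simp only [idot, mul_comm]

omit [Fintype ι] in
theorem injective_elim {κ : Type*} {f : κ → ι} (hf : Function.Injective f) {x : ι}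
    (hx : ∀ k, f k ≠ x) : Function.Injective (fun o : Option κ => o.elim x f) := by
  rintro (_ | a) (_ | b) e
  · rfl
  · exact absurd e.symm (hx b)
  · exact absurd e (hx a)
  · exact congrArg some (hf e)

theorem sum_sq_le {κ : Type*} [Fintype κ] (f : κ → ι) (hf : Function.Injective f) (v : ι → ℤ) :
    ∑ k, v (f k) * v (f k) ≤ idot v v := by
  classical
  calc ∑ k, v (f k) * v (f k) = ∑ x ∈ Finset.univ.map ⟨f, hf⟩, v x * v x := by
        rw [Finset.sum_map]; rfl
    _ ≤ _ := Finset.sum_le_univ_sum_of_nonneg fun x => mul_self_nonneg _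

theorem eq_zero_of_sum_sq {κ : Type*} [Fintype κ] (f : κ → ι) (hf : Function.Injective f)
    {v : ι → ℤ} (h : ∑ k, v (f k) * v (f k) = idot v v) {x : ι} (hx : ∀ k, f k ≠ x) : v x = 0 := by
  have := sum_sq_le _ (injective_elim hf hx) v
  rw [Fintype.sum_option] at this
  simp only [Option.elim_none, Option.elim_some] at this
  have h1 := mul_self_nonneg (v x)
  have h2 : v x * v x = 0 := by linarith
  simpa using h2

/-- If the squares at some places exhaust the norm, the vector lives on those places. -/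
theorem idot_eq {κ : Type*} [Fintype κ] (f : κ → ι) (hf : Function.Injective f)
    {v : ι → ℤ} (h : ∑ k, v (f k) * v (f k) = idot v v) (w : ι → ℤ) :
    idot v w = ∑ k, v (f k) * w (f k) := by
  classical
  trans ∑ x ∈ Finset.univ.map ⟨f, hf⟩, v x * w x
  swap
  · rw [Finset.sum_map]; rfl
  rw [idot]
  refine (Finset.sum_subset (Finset.subset_univ _) fun x _ hx => ?_).symm
  rw [eq_zero_of_sum_sq f hf h (x := x) fun k e => hx (by simp [← e]), zero_mul]

theorem one_le_sq {a : ℤ} (h : a ≠ 0) : 1 ≤ a * a := by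
  have := mul_self_pos.mpr h
  omega

theorem unit_of_sq {a : ℤ} (h : a * a = 1) : a = 1 ∨ a = -1 :=
  Int.eq_one_or_neg_one_of_mul_eq_one h

/-- A vector whose norm exceeds the squares at some places by one has one further unit. -/
theorem exists_unit {κ : Type*} [Fintype κ] (f : κ → ι) (hf : Function.Injective f)
    {v : ι → ℤ} (h : ∑ k, v (f k) * v (f k) + 1 = idot v v) :
    ∃ b, (∀ k, f k ≠ b) ∧ v b * v b = 1 ∧
      ∀ w, idot v w = ∑ k, v (f k) * w (f k) + v b * w b := by
  classical
  obtain ⟨b, hb, hvb⟩ : ∃ b, (∀ k, f k ≠ b) ∧ v b ≠ 0 := by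
    by_contra hc
    push Not at hc
    have h0 : idot v v = ∑ k, v (f k) * v (f k) := by
      trans ∑ x ∈ Finset.univ.map ⟨f, hf⟩, v x * v x
      swap
      · rw [Finset.sum_map]; rfl
      rw [idot]
      refine (Finset.sum_subset (Finset.subset_univ _) fun x _ hx => ?_).symm
      rw [hc x fun k e => hx (by simp [← e]), zero_mul]
    omega
  have hle := sum_sq_le _ (injective_elim hf hb) v
  rw [Fintype.sum_option] at hle
  simp only [Option.elim_none, Option.elim_some] at hle
  have h1 : v b * v b = 1 := by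
    have := one_le_sq hvb
    omega
  refine ⟨b, hb, h1, fun w => ?_⟩
  rw [idot_eq _ (injective_elim hf hb) (v := v) (by
    rw [Fintype.sum_option]; simp only [Option.elim_none, Option.elim_some]; omega) w,
    Fintype.sum_option]
  simp only [Option.elim_none, Option.elim_some]
  ring

/-- A vector with value one at `o` and two further units. -/
structure UnitPair (o : ι) (v : ι → ℤ) (p q : ι) : Prop where
  ne : p ≠ q
  po : p ≠ o
  qo : q ≠ o
  p_sq : v p * v p = 1
  q_sq : v q * v q = 1
  rep : ∀ w, idot v w = w o + (v p * w p + v q * w q)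

theorem UnitPair.symm {o : ι} {v : ι → ℤ} {p q : ι} (h : UnitPair o v p q) : UnitPair o v q p :=
  ⟨h.ne.symm, h.qo, h.po, h.q_sq, h.p_sq, fun w => by rw [h.rep]; ring⟩

/-- A vector of norm three. -/
theorem exists_unitPair {v : ι → ℤ} (o : ι) (ho : v o = 1) (h : idot v v = 3) :
    ∃ p q, UnitPair o v p q := by
  classical
  obtain ⟨p, hpo, hp⟩ : ∃ p, p ≠ o ∧ v p ≠ 0 := by
    by_contra hc
    push Not at hc
    have : idot v v = 1 := by
      rw [idot, Finset.sum_eq_single o (fun x _ hx => by rw [hc x hx, zero_mul]) (by simp), ho]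
      ring
    omega
  have hinj : Function.Injective (fun b : Bool => if b then o else p) := by
    intro a b e
    cases a <;> cases b <;> simp_all [hpo.symm]
  have hle := sum_sq_le _ hinj v
  simp only [Fintype.sum_bool, if_true, Bool.false_eq_true, if_false, ho] at hle
  have h2 : v p * v p = 1 := by
    have hb : v p ≤ 1 ∧ -1 ≤ v p := ⟨by nlinarith, by nlinarith⟩
    rcases (by omega : v p = 1 ∨ v p = -1) with e | e <;> rw [e] <;> norm_num
  obtain ⟨q, hq, hq1, hw⟩ := exists_unit _ hinj (v := v) (by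
    simp only [Fintype.sum_bool, if_true, Bool.false_eq_true, if_false, ho]; omega)
  refine ⟨p, q, by simpa using hq false, hpo, (by simpa using hq true : o ≠ q).symm, h2, hq1,
    fun w => ?_⟩
  rw [hw]
  simp only [Fintype.sum_bool, if_true, Bool.false_eq_true, if_false, ho]
  ring

theorem UnitPair.eq_zero_or {o : ι} {v : ι → ℤ} {p q : ι} (h : UnitPair o v p q) (x : ι) :
    v x = 0 ∨ x = o ∨ x = p ∨ x = q := by
  classical
  by_contra hc
  push Not at hc
  have h2 := h.rep (fun y => if y = x then 1 else 0)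
  rw [idot, Finset.sum_eq_single x (fun y _ hy => by rw [if_neg hy, mul_zero]) (by simp),
    if_pos rfl, mul_one, if_neg hc.2.1.symm, if_neg hc.2.2.1.symm, if_neg hc.2.2.2.symm] at h2
  simp at h2
  exact hc.1 h2

theorem UnitPair.disjoint {o : ι} {v w deg : ι → ℤ} {p q p' q' : ι} (hv : UnitPair o v p q)
    (hw : UnitPair o w p' q') (hwo : w o = 1) (h1 : idot v w = 1) (hdo : deg o = 1)
    (hd : ∀ x, deg x ≠ 0) (hvd : idot v deg = 0) (hwd : idot w deg = 0) :
    w p = 0 ∧ w q = 0 := by
  have hp0 : v p ≠ 0 := fun e => by simpa [e] using hv.p_sq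
  have hq0 : v q ≠ 0 := fun e => by simpa [e] using hv.q_sq
  rw [hv.rep, hwo] at h1
  rw [hv.rep, hdo] at hvd
  rcases eq_or_ne (w p) 0 with hp | hp
  · rw [hp, mul_zero] at h1
    have : v q * w q = 0 := by omega
    exact ⟨hp, (mul_eq_zero.1 this).resolve_left hq0⟩
  exfalso
  have hq : w q ≠ 0 := by
    intro e
    rw [e, mul_zero] at h1
    exact mul_ne_zero hp0 hp (by omega)
  have hp' := ((hw.eq_zero_or p).resolve_left hp).resolve_left hv.po
  have hq' := ((hw.eq_zero_or q).resolve_left hq).resolve_left hv.qo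
  obtain ⟨e1, e2, hwd'⟩ : w p * w p = 1 ∧ w q * w q = 1 ∧ 1 + (w p * deg p + w q * deg q) = 0 := by
    rw [hw.rep, hdo] at hwd
    rcases hp' with rfl | rfl <;> rcases hq' with rfl | rfl
    · exact absurd rfl hv.ne
    · exact ⟨hw.p_sq, hw.q_sq, hwd⟩
    · exact ⟨hw.q_sq, hw.p_sq, by rw [← hwd]; ring⟩
    · exact absurd rfl hv.ne
  have := hd p
  have := hd q
  rcases unit_of_sq hv.p_sq with a1 | a1 <;> rcases unit_of_sq hv.q_sq with a2 | a2 <;>
    rcases unit_of_sq e1 with a3 | a3 <;> rcases unit_of_sq e2 with a4 | a4 <;>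
    rw [a1, a2] at hvd h1 <;> rw [a3, a4] at h1 hwd' <;> omega

/-- The places `o`, `a_i`, `b_i`. -/
def places (o : ι) (a b : Fin 3 → ι) (k : Option (Fin 3 × Bool)) : ι :=
  k.elim o fun y => if y.2 then a y.1 else b y.1

omit [Fintype ι] in
theorem sum_places (o : ι) (a b : Fin 3 → ι) (g : ι → ℤ) :
    ∑ k, g (places o a b k) =
      g o + ((g (a 0) + g (b 0)) + (g (a 1) + g (b 1)) + (g (a 2) + g (b 2))) := by
  simp only [places, Fintype.sum_option, Option.elim_none, Option.elim_some,
    Fintype.sum_prod_type, Fintype.sum_bool, if_true, Bool.false_eq_true, if_false,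
    Fin.sum_univ_three]

/-- The hypotheses on the vectors. -/
structure Gram (deg : ι → ℤ) (o : ι) (A C : Fin 3 → ι → ℤ) (B P : ι → ℤ) : Prop where
  deg_o : deg o = 1
  deg_ne : ∀ x, deg x ≠ 0
  A_o : ∀ i, A i o = 1
  C_o : ∀ i, C i o = 0
  B_o : B o = 1
  P_o : P o = 0
  A_deg : ∀ i, idot (A i) deg = 0
  P_deg : idot P deg = 0
  AA : ∀ i j, idot (A i) (A j) = if i = j then 3 else 1
  BA : ∀ i, idot B (A i) = 2
  BB : idot B B = 5
  PP : idot P P = 2
  PA : ∀ i, idot P (A i) = 0
  PB : idot P B = -1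
  CC : ∀ i, idot (C i) (C i) = 3
  CA : ∀ i j, idot (C i) (A j) = if i = j then 0 else 1
  CB : ∀ i, idot (C i) B = 2
  CP : ∀ i, idot (C i) P = 0

variable {deg : ι → ℤ} {o : ι} {A C : Fin 3 → ι → ℤ} {B P : ι → ℤ}

theorem Gram.places_injective (h : Gram deg o A C B P) {a b : Fin 3 → ι}
    (hab : ∀ i, UnitPair o (A i) (a i) (b i)) : Function.Injective (places o a b) := by
  have hdis : ∀ i j, i ≠ j → A j (a i) = 0 ∧ A j (b i) = 0 := fun i j hij =>
    (hab i).disjoint (hab j) (h.A_o j) (by rw [h.AA, if_neg hij]) h.deg_o h.deg_ne (h.A_deg i)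
      (h.A_deg j)
  have key : ∀ i j, a i ≠ b j ∧ (i ≠ j → a i ≠ a j ∧ b i ≠ b j) := by
    intro i j
    refine ⟨fun e => ?_, fun hij => ⟨fun e => ?_, fun e => ?_⟩⟩
    · rcases eq_or_ne i j with rfl | hij
      · exact (hab i).ne e
      · have := (hdis i j hij).1; rw [e] at this; simpa [this] using (hab j).q_sq
    · have := (hdis i j hij).1; rw [e] at this; simpa [this] using (hab j).p_sq
    · have := (hdis i j hij).2; rw [e] at this; simpa [this] using (hab j).q_sq
  rintro (_ | ⟨i, x⟩) (_ | ⟨j, y⟩) e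
  · rfl
  · cases y
    · exact absurd e.symm (hab j).qo
    · exact absurd e.symm (hab j).po
  · cases x
    · exact absurd e (hab i).qo
    · exact absurd e (hab i).po
  · cases x <;> cases y
    · by_cases hij : i = j
      · rw [hij]
      · exact absurd e ((key i j).2 hij).2
    · exact absurd e.symm (key j i).1
    · exact absurd e (key i j).1
    · by_cases hij : i = j
      · rw [hij]
      · exact absurd e ((key i j).2 hij).1

theorem one_le_pair {u w x y : ℤ} (h : u * x + w * y = 1) : 1 ≤ x * x + y * y := by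
  rcases eq_or_ne x 0 with e | e
  · rcases eq_or_ne y 0 with e' | e'
    · subst e e'; simp at h
    · nlinarith [one_le_sq e']
  · nlinarith [one_le_sq e, mul_self_nonneg y]

theorem pick_unit {u w x y : ℤ} (hu : u * u = 1) (hw : w * w = 1) (h : u * x + w * y = 1)
    (hle : x * x + y * y ≤ 2) : (x = u ∧ y = 0) ∨ (x = 0 ∧ y = w) := by
  have hx : -1 ≤ x ∧ x ≤ 1 := ⟨by nlinarith, by nlinarith⟩
  have hy : -1 ≤ y ∧ y ≤ 1 := ⟨by nlinarith, by nlinarith⟩
  rcases unit_of_sq hu with rfl | rfl <;> rcases unit_of_sq hw with rfl | rfl <;> omega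

theorem three_zero {r0 r1 r2 : ℤ} (hs : r0 + r1 + r2 = 0)
    (hle : r0 * r0 + r1 * r1 + r2 * r2 ≤ 1) : r0 = 0 ∧ r1 = 0 ∧ r2 = 0 := by
  have := mul_self_nonneg r0
  have := mul_self_nonneg r1
  have := mul_self_nonneg r2
  rcases eq_or_ne r0 0 with h0 | h0 <;> rcases eq_or_ne r1 0 with h1 | h1 <;>
    rcases eq_or_ne r2 0 with h2 | h2 <;>
    first
      | omega
      | (have := one_le_sq h0; have := one_le_sq h1; omega)
      | (have := one_le_sq h0; have := one_le_sq h2; omega)
      | (have := one_le_sq h1; have := one_le_sq h2; omega)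

theorem le_sq (a : ℤ) : a ≤ a * a := by nlinarith [sq_nonneg (2 * a - 1)]

/-- The shared units. -/
theorem Gram.exists_units (h : Gram deg o A C B P) :
    ∃ (a : Fin 3 → ι) (ε : Fin 3 → ℤ), (∀ i, ε i * ε i = 1) ∧
      (∀ i, ∃ (b : ι) (δ : ℤ), δ * δ = 1 ∧
        ∀ w, idot (A i) w = w o + ε i * w (a i) + δ * w b) ∧
      (∀ i, ∃ (b : ι) (δ : ℤ), δ * δ = 1 ∧
        ∀ w, idot (C i) w = ε (i + 1) * w (a (i + 1)) + ε (i + 2) * w (a (i + 2)) + δ * w b) ∧
      ∃ (b : ι) (δ : ℤ), δ * δ = 1 ∧
        ∀ w, idot B w = w o + ε 0 * w (a 0) + ε 1 * w (a 1) + ε 2 * w (a 2) + δ * w b := by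
  classical
  choose p q hpq using fun i => exists_unitPair o (h.A_o i) (by rw [h.AA]; simp)
  have hinj := h.places_injective hpq
  -- `B` picks one unit from each pair
  have hsel : ∀ i, ∃ a b, UnitPair o (A i) a b ∧ B a = A i a ∧ B b = 0 := by
    have hle := sum_sq_le _ hinj B
    rw [sum_places o p q (fun x => B x * B x), h.B_o, h.BB] at hle
    have hs : ∀ k, A k (p k) * B (p k) + A k (q k) * B (q k) = 1 := fun k => by
      have := h.BA k
      rw [idot_comm, (hpq k).rep, h.B_o] at this
      omega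
    intro i
    have hle2 : B (p i) * B (p i) + B (q i) * B (q i) ≤ 2 := by
      have := one_le_pair (hs 0)
      have := one_le_pair (hs 1)
      have := one_le_pair (hs 2)
      fin_cases i <;> simp <;> omega
    rcases pick_unit (hpq i).p_sq (hpq i).q_sq (hs i) hle2 with ⟨e1, e2⟩ | ⟨e1, e2⟩
    · exact ⟨p i, q i, hpq i, e1, e2⟩
    · exact ⟨q i, p i, (hpq i).symm, e2, e1⟩
  choose a b hab hBa hBb using hsel
  have hinj' := h.places_injective hab
  have hu : ∀ i, A i (a i) * A i (a i) = 1 := fun i => (hab i).p_sq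
  obtain ⟨c, hc, hc1, hBw⟩ := exists_unit _ hinj' (v := B) (by
    rw [sum_places o a b (fun x => B x * B x), h.B_o, h.BB]
    simp only [hBa, hBb, hu, mul_zero]
    norm_num)
  replace hBw : ∀ w, idot B w = w o + A 0 (a 0) * w (a 0) + A 1 (a 1) * w (a 1) +
      A 2 (a 2) * w (a 2) + B c * w c := fun w => by
    rw [hBw, sum_places o a b (fun x => B x * w x), h.B_o]
    simp only [hBa, hBb, zero_mul]
    ring
  -- `Φ` avoids the pairs
  have hPz : ∀ i, P (a i) = 0 ∧ P (b i) = 0 := by
    intro i
    have h1 := h.PA i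
    rw [idot_comm, (hab i).rep, h.P_o] at h1
    have u1 := hu i
    have u2 := (hab i).q_sq
    have hnz1 : A i (a i) ≠ 0 := fun e => by simp [e] at u1
    have hnz2 : A i (b i) ≠ 0 := fun e => by simp [e] at u2
    rcases eq_or_ne (P (a i)) 0 with hPa | hPa
    · rw [hPa, mul_zero] at h1
      have : A i (b i) * P (b i) = 0 := by omega
      exact ⟨hPa, (mul_eq_zero.1 this).resolve_left hnz2⟩
    exfalso
    have hPb : P (b i) ≠ 0 := by
      intro e
      rw [e, mul_zero] at h1
      exact mul_ne_zero hnz1 hPa (by omega)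
    have hinj2 : Function.Injective (fun x : Bool => if x then a i else b i) := by
      intro x y e
      cases x <;> cases y <;> simp at e ⊢
      · exact (hab i).ne e.symm
      · exact (hab i).ne e
    have g1 := one_le_sq hPa
    have g2 := one_le_sq hPb
    have hle := sum_sq_le _ hinj2 P
    simp only [Fintype.sum_bool, if_true, Bool.false_eq_true, if_false, h.PP] at hle
    have hd := h.P_deg
    rw [idot_eq _ hinj2 (v := P) (by
      simp only [Fintype.sum_bool, if_true, Bool.false_eq_true, if_false, h.PP]; omega) deg] at hd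
    simp only [Fintype.sum_bool, if_true, Bool.false_eq_true, if_false] at hd
    have hAd := h.A_deg i
    rw [(hab i).rep, h.deg_o] at hAd
    rcases unit_of_sq (show P (a i) * P (a i) = 1 by omega) with e3 | e3 <;>
      rcases unit_of_sq (show P (b i) * P (b i) = 1 by omega) with e4 | e4 <;>
      rcases unit_of_sq u1 with e1 | e1 <;> rcases unit_of_sq u2 with e2 | e2 <;>
      rw [e1, e2] at h1 hAd <;> rw [e3, e4] at h1 hd <;> omega
  have hPc : P c ≠ 0 := by
    intro h0
    have := h.PB
    rw [idot_comm, hBw, h.P_o, (hPz 0).1, (hPz 1).1, (hPz 2).1, h0] at this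
    simp at this
  refine ⟨a, fun i => A i (a i), hu, fun i => ⟨b i, _, (hab i).q_sq, fun w => ?_⟩, fun i => ?_,
    c, _, hc1, hBw⟩
  · rw [(hab i).rep]; ring
  -- the vector `C i`
  have ht : ∀ k, A k (a k) * C i (a k) + A k (b k) * C i (b k) = if i = k then 0 else 1 := fun k => by
    have := h.CA i k
    rw [idot_comm, (hab k).rep, h.C_o] at this
    rw [← this]; ring
  have htot : 2 ≤ (C i (a 0) * C i (a 0) + C i (b 0) * C i (b 0)) +
      (C i (a 1) * C i (a 1) + C i (b 1) * C i (b 1)) +
      (C i (a 2) * C i (a 2) + C i (b 2) * C i (b 2)) := by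
    have hge : ∀ k, i ≠ k → 1 ≤ C i (a k) * C i (a k) + C i (b k) * C i (b k) := fun k hk =>
      one_le_pair (by rw [ht, if_neg hk])
    have hge' : ∀ k, 0 ≤ C i (a k) * C i (a k) + C i (b k) * C i (b k) := fun k =>
      add_nonneg (mul_self_nonneg _) (mul_self_nonneg _)
    have := hge' 0
    have := hge' 1
    have := hge' 2
    rcases (by omega : i = 0 ∨ i = 1 ∨ i = 2) with e | e | e
    · have := hge 1 (by omega); have := hge 2 (by omega); omega
    · have := hge 0 (by omega); have := hge 2 (by omega); omega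
    · have := hge 0 (by omega); have := hge 1 (by omega); omega
  have hCc : C i c = 0 := by
    by_contra hne
    obtain ⟨d, hdc, hd⟩ : ∃ d, d ≠ c ∧ C i d * P d ≠ 0 := by
      by_contra hcon
      push Not at hcon
      have := h.CP i
      rw [idot, Finset.sum_eq_single c (fun x _ hx => hcon x hx) (by simp)] at this
      exact mul_ne_zero hne hPc this
    have hd0 : ∀ x, (Option.elim x c (places o a b) : ι) ≠ d := by
      rintro (_ | _ | ⟨k, x⟩) e
      · exact hdc e.symm
      · simp only [Option.elim_some, places, Option.elim_none] at e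
        subst e; simp [h.P_o] at hd
      · cases x <;> simp [places] at e <;> subst e <;> simp [(hPz k).1, (hPz k).2] at hd
    have hle := sum_sq_le _ (injective_elim (injective_elim hinj' hc) hd0) (C i)
    simp only [Fintype.sum_option (α := Option (Option (Fin 3 × Bool))), Option.elim_none,
      Option.elim_some] at hle
    rw [Fintype.sum_option (α := Option (Fin 3 × Bool))] at hle
    simp only [Option.elim_none, Option.elim_some] at hle
    rw [sum_places o a b (fun x => C i x * C i x), h.C_o, h.CC] at hle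
    have g1 := one_le_sq hne
    have g2 := one_le_sq (left_ne_zero_of_mul hd)
    omega
  have hsum : A 0 (a 0) * C i (a 0) + A 1 (a 1) * C i (a 1) + A 2 (a 2) * C i (a 2) = 2 := by
    have := h.CB i
    rw [idot_comm, hBw, h.C_o, hCc] at this
    rw [← this]; ring
  have hle := sum_sq_le _ hinj' (C i)
  rw [sum_places o a b (fun x => C i x * C i x), h.C_o, h.CC] at hle
  have hsq : ∀ k, C i (a k) * C i (a k) = (A k (a k) * C i (a k)) * (A k (a k) * C i (a k)) ∧
      C i (b k) * C i (b k) = (A k (b k) * C i (b k)) * (A k (b k) * C i (b k)) := fun k =>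
    ⟨by linear_combination -(C i (a k) * C i (a k)) * hu k,
      by linear_combination -(C i (b k) * C i (b k)) * (hab k).q_sq⟩
  rw [(hsq 0).1, (hsq 0).2, (hsq 1).1, (hsq 1).2, (hsq 2).1, (hsq 2).2] at hle
  have hsum' : A 0 (b 0) * C i (b 0) + A 1 (b 1) * C i (b 1) + A 2 (b 2) * C i (b 2) = 0 := by
    have e0 := ht 0
    have e1 := ht 1
    have e2 := ht 2
    rcases (by omega : i = 0 ∨ i = 1 ∨ i = 2) with e | e | e <;> subst e <;> simp at e0 e1 e2 <;> omega
  obtain ⟨hb0, hb1, hb2⟩ := three_zero hsum' (by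
    have := le_sq (A 0 (a 0) * C i (a 0))
    have := le_sq (A 1 (a 1) * C i (a 1))
    have := le_sq (A 2 (a 2) * C i (a 2))
    omega)
  have hbz : ∀ k, C i (b k) = 0 := fun k => by
    have : A k (b k) * C i (b k) = 0 := by
      rcases (by omega : k = 0 ∨ k = 1 ∨ k = 2) with e | e | e <;> subst e <;> assumption
    exact (mul_eq_zero.1 this).resolve_left fun e => by simpa [e] using (hab k).q_sq
  have hsqa : ∀ k, C i (a k) = A k (a k) * (if i = k then 0 else 1) := fun k => by
    rw [← ht k, hbz k]; linear_combination -(C i (a k)) * hu k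
  obtain ⟨z, -, hz1, hzw⟩ := exists_unit _ hinj' (v := C i) (by
    rw [sum_places o a b (fun x => C i x * C i x), h.C_o, h.CC]
    simp only [hsqa, hbz]
    rcases (by omega : i = 0 ∨ i = 1 ∨ i = 2) with e | e | e <;> subst e <;> simp [hu])
  refine ⟨z, C i z, hz1, fun w => ?_⟩
  rw [hzw, sum_places o a b (fun x => C i x * w x), h.C_o]
  simp only [hsqa, hbz]
  rcases (by omega : i = 0 ∨ i = 1 ∨ i = 2) with e | e | e <;> subst e <;> simp <;> ring

end Cfsg.Agent.Lib.Higman3
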