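import Mathlib
import Cfsg.Agent.Lib.Higman3.TI
import Cfsg.Agent.Lib.Higman3.Units

/-!
Integer coefficients of induced generalized characters; linear functionals on them.
-/

set_option autoImplicit false

namespace Cfsg.Agent.Lib.Higman3

open Cfsg Cfsg.Agent.Lib
open scoped ComplexConjugate

theorem exists_int_value_involution {G : Type*} [Group G] [Finite G] (χ : IrrCharacter G) {g : G}
    (hg : g * g = 1) : ∃ k : ℤ, (χ : G → ℂ) g = k := by
  obtain ⟨n, ρ, -, hχ⟩ := Chars.irr_exists_rep χ
  obtain ⟨ι, _, μ, -, hm, hsum, -⟩ := Chars.exists_roots_sum ρ g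
  have hμ : ∀ i, ∃ k : ℤ, μ i = k := fun i => by
    have h2 : orderOf g ∣ 2 := orderOf_dvd_of_pow_eq_one (by rw [sq, hg])
    obtain ⟨k, hk⟩ := h2
    have h : μ i ^ 2 = 1 := by rw [hk, pow_mul, hm, one_pow]
    rcases sq_eq_one_iff.1 h with e | e
    · exact ⟨1, by simp [e]⟩
    · exact ⟨-1, by simp [e]⟩
  choose k hk using hμ
  exact ⟨∑ i, k i, by rw [← hχ, hsum]; push_cast; exact Finset.sum_congr rfl fun i _ => hk i⟩

theorem idot_cast {ι : Type*} [Fintype ι] {κ : Type*} [Fintype κ] {v : ι → ℤ} {c : κ → ℤ}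
    {p : κ → ι} (hv : ∀ w, idot v w = ∑ k, c k * w (p k)) (F : ι → ℂ) :
    ∑ x, (v x : ℂ) * F x = ∑ k, (c k : ℂ) * F (p k) := by
  classical
  have hx : ∀ x, v x = ∑ k, c k * if p k = x then 1 else 0 := fun x => by
    have := hv fun y => if y = x then 1 else 0
    simpa [idot] using this
  simp only [hx, Int.cast_sum, Int.cast_mul, apply_ite (Int.cast : ℤ → ℂ), Int.cast_one,
    Int.cast_zero, Finset.sum_mul]
  rw [Finset.sum_comm]
  exact Finset.sum_congr rfl fun k _ => by simp

variable {G : Type*} [Group G] [Fintype G] {H : Subgroup G} [Fintype H] {φ η : H → ℂ}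

/-- The multiplicity of `χ` in the function induced from a generalized character. -/
noncomputable def coeff (hφ : IsGeneralizedCharacter H φ) (χ : IrrCharacter G) : ℤ :=
  (Chars.isGeneralizedCharacter_classInner_int hφ (Chars.isGeneralizedCharacter_of_isCharacter
    (Chars.isCharacter_restrict (H := H) (Chars.irr_isCharacter χ)))).choose

theorem coeff_spec (hφ : IsGeneralizedCharacter H φ) (χ : IrrCharacter G) :
    classInner (indFun H φ) (χ : G → ℂ) = coeff hφ χ := by
  rw [Chars.classInner_indFun_left _ _ _ (Chars.irr_isClassFunction χ)]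
  exact (Chars.isGeneralizedCharacter_classInner_int hφ (Chars.isGeneralizedCharacter_of_isCharacter
    (Chars.isCharacter_restrict (H := H) (Chars.irr_isCharacter χ)))).choose_spec

theorem indFun_apply_eq_sum (hφ : IsGeneralizedCharacter H φ) (g : G) :
    indFun H φ g = ∑ χ : IrrCharacter G, (coeff hφ χ : ℂ) * (χ : G → ℂ) g := by
  rw [Chars.isClassFunction_apply_eq_sum_classInner (Chars.isClassFunction_indFun _ _)]
  simp only [coeff_spec hφ]

theorem idot_coeff {X : Set G} (hX : ControlledSet H X) (hφ : IsGeneralizedCharacter H φ)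
    (hη : IsGeneralizedCharacter H η) (hφs : Supported X φ) (hηs : Supported X η) :
    (idot (coeff hφ) (coeff hη) : ℂ) = classInner φ η := by
  rw [← classInner_indFun hX (Chars.isClassFunction_of_isGeneralizedCharacter hη) hφs hηs,
    Chars.classInner_eq_sum_mul_conj (Chars.isClassFunction_indFun _ _)
      (Chars.isClassFunction_indFun _ _), idot]
  simp only [coeff_spec hφ, coeff_spec hη, map_intCast, Int.cast_sum, Int.cast_mul]

theorem coeff_trivial (hφ : IsGeneralizedCharacter H φ) :
    (coeff hφ (Chars.trivialIrr G) : ℂ) = classInner φ (fun _ => 1) := by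
  rw [← coeff_spec hφ, Chars.classInner_indFun_left _ _ _ (Chars.irr_isClassFunction _)]
  simp

/-- The degree of an irreducible character. -/
noncomputable def irrDeg (χ : IrrCharacter G) : ℤ :=
  ((Chars.isCharacter_exists_degree (Chars.irr_isCharacter χ)).choose : ℤ)

omit [Fintype G] in
theorem irrDeg_spec (χ : IrrCharacter G) : (χ : G → ℂ) 1 = irrDeg χ := by
  rw [irrDeg, Int.cast_natCast]
  exact (Chars.isCharacter_exists_degree (Chars.irr_isCharacter χ)).choose_spec

omit [Fintype G] in
theorem irrDeg_ne_zero [Finite G] (χ : IrrCharacter G) : irrDeg χ ≠ 0 := fun h =>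
  Chars.irr_apply_one_ne_zero χ (by rw [irrDeg_spec, h, Int.cast_zero])

omit [Fintype G] in
theorem irrDeg_nonneg (χ : IrrCharacter G) : 0 ≤ irrDeg χ := Int.natCast_nonneg _

theorem idot_coeff_deg {X : Set G} (h1 : (1 : G) ∉ X) (hφ : IsGeneralizedCharacter H φ)
    (hφs : Supported X φ) : idot (coeff hφ) irrDeg = 0 := by
  have h := indFun_apply_eq_sum hφ 1
  rw [Chars.indFun_one_eq, hφs 1 (by simpa using h1), mul_zero] at h
  simp only [irrDeg_spec] at h
  have : (idot (coeff hφ) irrDeg : ℂ) = 0 := by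
    simp only [idot, Int.cast_sum, Int.cast_mul]
    exact h.symm
  exact_mod_cast this

/-- The key identity for products of two conjugates of an involution. -/
theorem sum_coeff_pairs [DecidableEq G] {X : Set G} (hX : ControlledSet H X)
    (hφ : IsGeneralizedCharacter H φ) (hs : Supported X φ) (K : Finset G)
    (hK : ∀ u ∈ K, ∀ x : G, x * u * x⁻¹ ∈ K) (hinvol : ∀ u ∈ K, u * u = 1) (KH : Finset H)
    (hKH : ∀ h : H, h ∈ KH ↔ (h : G) ∈ K) :
    ∑ χ : IrrCharacter G, (coeff hφ χ : ℂ) * ((∑ u ∈ K, (χ : G → ℂ) u) ^ 2 / (χ : G → ℂ) 1) =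
      (Nat.card G : ℂ) / (Nat.card H : ℂ) * ∑ u ∈ KH, ∑ v ∈ KH, φ (u * v) := by
  rw [← sum_pairs_indFun hX hs K hK hinvol KH hKH]
  simp only [indFun_apply_eq_sum hφ, ← sum_pairs_irr _ K hK, Finset.mul_sum]
  rw [Finset.sum_comm]
  exact Finset.sum_congr rfl fun u _ => Finset.sum_comm

end Cfsg.Agent.Lib.Higman3
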