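import Mathlib
import Cfsg.Agent.Lib.Higman3.Model

/-!
The group generated in degree nine by three `3`-cycles and two double transpositions is the group
of even triples; consequences for a subgroup isomorphic to it.
-/

set_option autoImplicit false

namespace Cfsg.Agent.Lib.Higman3

open Equiv

theorem co_mul (i : Fin 3) (σ τ : Tri) : co i (σ * τ) = co i σ * co i τ := by
  unfold co; split_ifs <;> rfl

theorem co_one' (i : Fin 3) : co i 1 = 1 := by
  unfold co; split_ifs <;> rfl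

/-- A coordinate as a homomorphism. -/
def coHom (i : Fin 3) : Tri →* Perm (Fin 3) where
  toFun := co i
  map_one' := co_one' i
  map_mul' := co_mul i

theorem sg_mul (i : Fin 3) (σ τ : Tri) : sg i (σ * τ) = sg i σ * sg i τ := by
  simp [sg, co_mul]

theorem mem_evenSet {σ : Tri} : σ ∈ evenSet ↔ sg 0 σ * sg 1 σ * sg 2 σ = 1 := by
  simp [evenSet]

/-- The even triples as a subgroup. -/
def evenSub : Subgroup Tri where
  carrier := {σ | σ ∈ evenSet}
  one_mem' := mem_evenSet.2 (by simp [sg, co_one'])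
  mul_mem' {a b} ha hb := mem_evenSet.2 (by
    calc sg 0 (a * b) * sg 1 (a * b) * sg 2 (a * b)
        = (sg 0 a * sg 1 a * sg 2 a) * (sg 0 b * sg 1 b * sg 2 b) := by simp only [sg_mul]; ring
      _ = 1 := by rw [mem_evenSet.1 ha, mem_evenSet.1 hb, one_mul])
  inv_mem' {a} ha := mem_evenSet.2 (by
    have h : sg 0 a * sg 1 a * sg 2 a = 1 := mem_evenSet.1 ha
    have he : ∀ i, sg i a⁻¹ = sg i a := fun i => by
      simp [sg, show co i a⁻¹ = (co i a)⁻¹ from map_inv (coHom i) a]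
    rw [he, he, he, h])

theorem mem_evenSub {σ : Tri} : σ ∈ evenSub ↔ σ ∈ evenSet := Iff.rfl

/-- The three 3-cycles. -/
def tA : Tri := (swap 0 1 * swap 1 2, 1, 1)
/-- The second 3-cycle. -/
def tB : Tri := (1, swap 0 1 * swap 1 2, 1)
/-- The third 3-cycle. -/
def tC : Tri := (1, 1, swap 0 1 * swap 1 2)
/-- The first double transposition. -/
def tD : Tri := (swap 0 1, swap 0 1, 1)
/-- The second double transposition. -/
def tE : Tri := (swap 0 1, 1, swap 0 1)

theorem gens_mem : tA ∈ evenSet ∧ tB ∈ evenSet ∧ tC ∈ evenSet ∧ tD ∈ evenSet ∧ tE ∈ evenSet := by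
  simp only [mem_evenSet]
  decide +kernel

theorem cube_decomp : ∀ σ ∈ evenSet, σ ^ 3 = 1 →
    ∃ x y z : Fin 3, σ = tA ^ (x : ℕ) * tB ^ (y : ℕ) * tC ^ (z : ℕ) := by decide +kernel

theorem full_decomp : ∀ σ ∈ evenSet,
    ∃ u v : Fin 2, (σ * (tD ^ (u : ℕ) * tE ^ (v : ℕ))) ^ 3 = 1 := by decide +kernel

theorem gens_commutator : tA = tD * tA * tD⁻¹ * tA⁻¹ ∧ tB = tD * tB * tD⁻¹ * tB⁻¹ ∧
    tC = tE * tC * tE⁻¹ * tC⁻¹ := by decide +kernel

theorem cube_iff : ∀ σ ∈ evenSet, σ ^ 3 = 1 ↔ ∀ i, sg i σ = 1 := by decide +kernel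

theorem card_cube : (evenSet.filter fun σ => σ ^ 3 = 1).card = 27 := by decide +kernel

theorem cube_comm : ∀ σ ∈ evenSet.filter (fun σ => σ ^ 3 = 1),
    ∀ τ ∈ evenSet.filter (fun σ => σ ^ 3 = 1), σ * τ = τ * σ := by decide +kernel

theorem cube_mem_three : ∀ σ ∈ evenSet, σ ^ 27 = 1 → σ ^ 3 = 1 := by decide +kernel

theorem not_cube : ∀ σ ∈ evenSet, σ ^ 3 ≠ 1 → σ ^ 3 * σ ^ 3 = 1 := by decide +kernel

/-- Three blocks of three points. -/
def blockEquiv : Fin 3 ⊕ (Fin 3 ⊕ Fin 3) ≃ Fin 9 :=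
  (Equiv.sumCongr (Equiv.refl _) finSumFinEquiv).trans finSumFinEquiv

/-- Triples as permutations of nine points. -/
def emb : Tri →* Perm (Fin 9) :=
  blockEquiv.permCongrHom.toMonoidHom.comp
    ((Perm.sumCongrHom _ _).comp ((MonoidHom.id _).prodMap (Perm.sumCongrHom _ _)))

theorem emb_injective : Function.Injective emb :=
  blockEquiv.permCongrHom.injective.comp
    (Perm.sumCongrHom_injective.comp (Function.Injective.prodMap Function.injective_id
      Perm.sumCongrHom_injective))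

theorem emb_gens :
    emb tA = swap (0 : Fin 9) 1 * swap 1 2 ∧ emb tB = swap (3 : Fin 9) 4 * swap 4 5 ∧
      emb tC = swap (6 : Fin 9) 7 * swap 7 8 ∧ emb tD = swap (0 : Fin 9) 1 * swap 3 4 ∧
      emb tE = swap (0 : Fin 9) 1 * swap 6 7 := by
  decide +kernel

theorem closure_eq :
    Subgroup.closure ({swap (0 : Fin 9) 1 * swap 1 2, swap (3 : Fin 9) 4 * swap 4 5,
      swap (6 : Fin 9) 7 * swap 7 8, swap (0 : Fin 9) 1 * swap 3 4,
      swap (0 : Fin 9) 1 * swap 6 7} : Set (Perm (Fin 9))) = evenSub.map emb := by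
  obtain ⟨eA, eB, eC, eD, eE⟩ := emb_gens
  obtain ⟨mA, mB, mC, mD, mE⟩ := gens_mem
  rw [← eA, ← eB, ← eC, ← eD, ← eE]
  apply le_antisymm
  · rw [Subgroup.closure_le]
    rintro _ (rfl | rfl | rfl | rfl | rfl)
    exacts [⟨_, mA, rfl⟩, ⟨_, mB, rfl⟩, ⟨_, mC, rfl⟩, ⟨_, mD, rfl⟩, ⟨_, mE, rfl⟩]
  · rintro _ ⟨σ, hσ, rfl⟩
    obtain ⟨u, v, huv⟩ := full_decomp σ hσ
    obtain ⟨x, y, z, hxyz⟩ := cube_decomp _ (evenSub.mul_mem hσ
      (evenSub.mul_mem (evenSub.pow_mem mD _) (evenSub.pow_mem mE _))) huv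
    rw [← eq_mul_inv_iff_mul_eq] at hxyz
    rw [hxyz]
    simp only [map_mul, map_inv, map_pow]
    refine mul_mem (mul_mem (mul_mem (pow_mem ?_ _) (pow_mem ?_ _)) (pow_mem ?_ _))
      (inv_mem (mul_mem (pow_mem ?_ _) (pow_mem ?_ _))) <;>
      exact Subgroup.subset_closure (by simp)

variable {G : Type*} [Group G]

/-- An isomorphism of `H` with the even triples. -/
structure Model (H : Subgroup G) where
  /-- The map. -/
  psi : H →* Tri
  inj : Function.Injective psi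
  range : ∀ σ, σ ∈ evenSet ↔ ∃ h, psi h = σ

theorem nonempty_model {H : Subgroup G}
    (hH : Nonempty (↥H ≃* ↥(Subgroup.closure ({swap (0 : Fin 9) 1 * swap 1 2,
      swap (3 : Fin 9) 4 * swap 4 5, swap (6 : Fin 9) 7 * swap 7 8, swap (0 : Fin 9) 1 * swap 3 4,
      swap (0 : Fin 9) 1 * swap 6 7} : Set (Perm (Fin 9)))))) : Nonempty (Model H) := by
  rw [closure_eq] at hH
  obtain ⟨e⟩ := hH
  let f := e.trans (evenSub.equivMapOfInjective emb emb_injective).symm
  refine ⟨⟨evenSub.subtype.comp f.toMonoidHom, evenSub.subtype_injective.comp f.injective,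
    fun σ => ⟨fun hσ => ⟨f.symm ⟨σ, hσ⟩, by simp⟩, ?_⟩⟩⟩
  rintro ⟨h, rfl⟩
  exact (f h).2

namespace Model

variable {H : Subgroup G} (M : Model H)

theorem mem (h : H) : M.psi h ∈ evenSet := (M.range _).2 ⟨h, rfl⟩

theorem sum_eq {A : Type*} [AddCommMonoid A] [Fintype H] (F : Tri → A) :
    ∑ h : H, F (M.psi h) = ∑ σ ∈ evenSet, F σ := by
  classical
  refine Finset.sum_bij (fun h _ => M.psi h) (fun h _ => M.mem h) (fun a _ b _ e => M.inj e)
    (fun σ hσ => ?_) (fun _ _ => rfl)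
  obtain ⟨h, rfl⟩ := (M.range σ).1 hσ
  exact ⟨h, Finset.mem_univ _, rfl⟩

include M in
theorem card_eq [Fintype H] : Nat.card H = 108 := by
  rw [Nat.card_eq_fintype_card, Fintype.card_eq_sum_ones, M.sum_eq (fun _ => (1 : ℕ))]
  decide +kernel

theorem pow_eq_one_iff (h : H) (n : ℕ) : M.psi h ^ n = 1 ↔ h ^ n = 1 := by
  rw [← map_pow, map_eq_one_iff _ M.inj]

include M in
theorem pow_six (h : H) : h ^ 6 = 1 := (M.pow_eq_one_iff h 6).1 (sixth_power _ (M.mem h))

include M in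
theorem comm_of_cube {h k : H} (hh : h ^ 3 = 1) (hk : k ^ 3 = 1) : h * k = k * h := by
  apply M.inj
  rw [map_mul, map_mul]
  exact cube_comm _ (Finset.mem_filter.2 ⟨M.mem h, (M.pow_eq_one_iff h 3).2 hh⟩) _
    (Finset.mem_filter.2 ⟨M.mem k, (M.pow_eq_one_iff k 3).2 hk⟩)

include M in
/-- A subgroup of order 27 consists of the elements with trivial cube. -/
theorem mem_iff_cube [Finite G] {T : Subgroup G} (hTH : T ≤ H) (hT : Nat.card T = 27) (h : H) :
    (h : G) ∈ T ↔ h ^ 3 = 1 := by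
  classical
  haveI := Fintype.ofFinite H
  let S1 : Finset H := Finset.univ.filter fun h => (h : G) ∈ T
  let S2 : Finset H := Finset.univ.filter fun h => h ^ 3 = 1
  have h12 : S1 = S2 := by
    apply Finset.eq_of_subset_of_card_le
    · intro x hx
      simp only [S1, S2, Finset.mem_filter, Finset.mem_univ, true_and] at hx ⊢
      refine (M.pow_eq_one_iff x 3).1 (cube_mem_three _ (M.mem x) ((M.pow_eq_one_iff x 27).2 ?_))
      have := orderOf_dvd_natCard (⟨(x : G), hx⟩ : T)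
      rw [hT, ← Subgroup.orderOf_coe, orderOf_dvd_iff_pow_eq_one] at this
      exact Subtype.ext (by simpa using this)
    · have hc1 : S1.card = 27 := by
        rw [← hT, ← Fintype.card_subtype, ← Nat.card_eq_fintype_card]
        exact Nat.card_congr (Subgroup.subgroupOfEquivOfLe hTH).toEquiv
      have hc2 : S2.card = 27 := by
        rw [← card_cube]
        refine Finset.card_bij (fun x _ => M.psi x) (fun x hx => ?_) (fun a _ b _ e => M.inj e) ?_
        · simp only [S2, Finset.mem_filter, Finset.mem_univ, true_and] at hx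
          exact Finset.mem_filter.2 ⟨M.mem x, (M.pow_eq_one_iff x 3).2 hx⟩
        · intro σ hσ
          obtain ⟨hσ1, hσ2⟩ := Finset.mem_filter.1 hσ
          obtain ⟨x, rfl⟩ := (M.range σ).1 hσ1
          exact ⟨x, by simpa [S2] using (M.pow_eq_one_iff x 3).1 hσ2, rfl⟩
      omega
  simpa [S1, S2] using Finset.ext_iff.1 h12 h

include M in
theorem hom_eq_one_of_cube {A : Type*} [CommGroup A] (f : H →* A) {h : H} (hh : h ^ 3 = 1) :
    f h = 1 := by
  obtain ⟨x, y, z, e⟩ := cube_decomp _ (M.mem h) ((M.pow_eq_one_iff h 3).2 hh)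
  obtain ⟨mA, mB, mC, mD, mE⟩ := gens_mem
  obtain ⟨a, ha⟩ := (M.range _).1 mA
  obtain ⟨b, hb⟩ := (M.range _).1 mB
  obtain ⟨c, hc⟩ := (M.range _).1 mC
  obtain ⟨d, hd⟩ := (M.range _).1 mD
  obtain ⟨g, hg⟩ := (M.range _).1 mE
  obtain ⟨cA, cB, cC⟩ := gens_commutator
  have key : ∀ u v : H, M.psi u = M.psi v * M.psi u * (M.psi v)⁻¹ * (M.psi u)⁻¹ → f u = 1 := by
    intro u v huv
    rw [show u = v * u * v⁻¹ * u⁻¹ from M.inj (by simpa using huv)]
    simp [mul_comm]
  have hh' : h = a ^ (x : ℕ) * b ^ (y : ℕ) * c ^ (z : ℕ) := M.inj (by simp [e, ha, hb, hc])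
  rw [hh', map_mul, map_mul, map_pow, map_pow, map_pow,
    key a d (by rw [ha, hd]; exact cA), key b d (by rw [hb, hd]; exact cB),
    key c g (by rw [hc, hg]; exact cC)]
  simp

end Model

end Cfsg.Agent.Lib.Higman3
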