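import Mathlib
import Cfsg.Agent.Lib.Higman3.Transport
import Cfsg.Agent.Lib.Higman3.Coeff

/-!
The generalized characters of the group of order 108 vanishing on elements of order at most two;
their Gram matrix after induction.
-/

set_option autoImplicit false

namespace Cfsg.Agent.Lib.Higman3

open Cfsg Cfsg.Agent.Lib Equiv
open scoped ComplexConjugate

variable {G : Type*} [Group G] {H : Subgroup G}

/-- The elements of `H` of order more than two. -/
def bigSet (H : Subgroup G) : Set G := {g | g ∈ H ∧ g * g ≠ 1}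

theorem one_not_mem_bigSet : (1 : G) ∉ bigSet H := fun h => h.2 (one_mul 1)

namespace Model

variable (M : Model H)

/-- An integer function of triples read on `H`. -/
def lift (f : Tri → ℤ) : H → ℂ := fun h => (f (M.psi h) : ℂ)

theorem vc_hom (f : H →* ℤˣ) : IsGeneralizedCharacter H (fun h => ((f h : ℤ) : ℂ)) :=
  Chars.isGeneralizedCharacter_of_isCharacter
    (Chars.isCharacter_hom ((Units.map (Int.castRingHom ℂ).toMonoidHom).comp f))

theorem vc_one : IsGeneralizedCharacter H (M.lift fun _ => 1) := by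
  have := vc_hom (H := H) 1
  unfold lift
  simpa using this

theorem vc_sg (i : Fin 3) : IsGeneralizedCharacter H (M.lift (sg i)) :=
  vc_hom (Perm.sign.comp ((coHom i).comp M.psi))

theorem vc_th (i : Fin 3) : IsGeneralizedCharacter H (M.lift (th i)) := by
  have h := Chars.isGeneralizedCharacter_of_isCharacter (Chars.isCharacter_comp ((coHom i).comp M.psi)
    (Chars.isCharacter_permChar (G := Perm (Fin 3)) (Fin 3)))
  have h' := Chars.isGeneralizedCharacter_sub h M.vc_one
  have e : M.lift (th i) = (fun x => (Nat.card (MulAction.fixedBy (Fin 3)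
      (((coHom i).comp M.psi) x)) : ℂ)) - M.lift fun _ => 1 := by
    funext x
    simp only [lift, th, Pi.sub_apply, Int.cast_sub, Int.cast_natCast, Int.cast_one]
    congr 2
    rw [Nat.card_eq_fintype_card, ← Fintype.card_subtype]
    exact Fintype.card_congr (Equiv.refl _)
  rw [e]; exact h'

theorem vc_add {f g : Tri → ℤ} (hf : IsGeneralizedCharacter H (M.lift f))
    (hg : IsGeneralizedCharacter H (M.lift g)) :
    IsGeneralizedCharacter H (M.lift fun σ => f σ + g σ) := by
  have e : (M.lift fun σ => f σ + g σ) = M.lift f + M.lift g := by funext; simp [lift]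
  rw [e]; exact Chars.isGeneralizedCharacter_add hf hg

theorem vc_sub {f g : Tri → ℤ} (hf : IsGeneralizedCharacter H (M.lift f))
    (hg : IsGeneralizedCharacter H (M.lift g)) :
    IsGeneralizedCharacter H (M.lift fun σ => f σ - g σ) := by
  have e : (M.lift fun σ => f σ - g σ) = M.lift f - M.lift g := by funext; simp [lift]
  rw [e]; exact Chars.isGeneralizedCharacter_sub hf hg

theorem vc_mul {f g : Tri → ℤ} (hf : IsGeneralizedCharacter H (M.lift f))
    (hg : IsGeneralizedCharacter H (M.lift g)) :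
    IsGeneralizedCharacter H (M.lift fun σ => f σ * g σ) := by
  have e : (M.lift fun σ => f σ * g σ) = M.lift f * M.lift g := by funext; simp [lift]
  rw [e]; exact Chars.isGeneralizedCharacter_mul hf hg

theorem vc_A (i : Fin 3) : IsGeneralizedCharacter H (M.lift (fA i)) :=
  M.vc_sub (M.vc_add M.vc_one (M.vc_sg i)) (M.vc_th i)

theorem vc_C (i : Fin 3) : IsGeneralizedCharacter H (M.lift (fC i)) :=
  M.vc_sub (M.vc_add (M.vc_sg _) (M.vc_sg _)) (M.vc_mul (M.vc_th i) (M.vc_sg _))

theorem vc_B : IsGeneralizedCharacter H (M.lift fB) :=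
  M.vc_sub (M.vc_add (M.vc_add (M.vc_add M.vc_one (M.vc_sg 0)) (M.vc_sg 1)) (M.vc_sg 2))
    (M.vc_mul (M.vc_th 0) (M.vc_th 1))

theorem vc_P : IsGeneralizedCharacter H (M.lift fP) :=
  M.vc_sub (M.vc_mul (M.vc_th 0) (M.vc_th 1)) (M.vc_mul (M.vc_th 0) (M.vc_th 2))

theorem supported {f : Tri → ℤ} (hf : ∀ σ ∈ evenSet, σ * σ = 1 → f σ = 0) :
    Supported (bigSet H) (M.lift f) := fun h hh => by
  have h2 : h * h = 1 := by
    by_contra hne
    exact hh ⟨h.2, fun e => hne (Subtype.ext e)⟩
  simp [lift, hf _ (M.mem h) (by rw [← map_mul, h2, map_one])]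

theorem classInner_lift [Fintype H] (f g : Tri → ℤ) {k : ℤ}
    (h : ∑ σ ∈ evenSet, f σ * g σ = 108 * k) : classInner (M.lift f) (M.lift g) = k := by
  have e : ∑ x : H, M.lift f x * conj (M.lift g x) = ((108 * k : ℤ) : ℂ) := by
    rw [← h, ← M.sum_eq (fun σ => f σ * g σ)]
    simp [lift]
  rw [classInner, e, M.card_eq]
  push_cast
  ring

include M in
theorem controlled [Finite G] {T : Subgroup G} (hTH : T ≤ H) (hT : Nat.card T = 27)
    (hN : Subgroup.normalizer (T : Set G) = H)
    (hC : ∀ t ∈ T, t ≠ 1 → Subgroup.centralizer ({t} : Set G) ≤ H) :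
    ControlledSet H (bigSet H) where
  subset _ h := h.1
  inv_mem a ha := ⟨H.inv_mem ha.1, fun e => ha.2 (inv_injective (by rw [mul_inv_rev, e, inv_one]))⟩
  fusion a ha g hg := by
    have hsq : ∀ b, b ∈ bigSet H → b * b ∈ T ∧ b * b ≠ 1 := by
      intro b hb
      refine ⟨(M.mem_iff_cube hTH hT ⟨b * b, H.mul_mem hb.1 hb.1⟩).2 (Subtype.ext ?_), hb.2⟩
      have h6 := congrArg Subtype.val (M.pow_six ⟨b, hb.1⟩)
      simp only [SubmonoidClass.coe_pow, OneMemClass.coe_one] at h6
      simp only [SubmonoidClass.coe_pow, OneMemClass.coe_one]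
      rw [← sq, ← pow_mul, h6]
    obtain ⟨ht, ht1⟩ := hsq a ha
    obtain ⟨ht', -⟩ := hsq _ hg
    have hconj : g * a * g⁻¹ * (g * a * g⁻¹) = g * (a * a) * g⁻¹ := by group
    rw [hconj] at ht'
    have hstep : ∀ s ∈ T, g⁻¹ * s * g ∈ T := by
      intro s hs
      have h1 : s * (g * (a * a) * g⁻¹) = g * (a * a) * g⁻¹ * s :=
        congrArg Subtype.val (M.comm_of_cube (h := ⟨s, hTH hs⟩) (k := ⟨_, hTH ht'⟩)
          ((M.mem_iff_cube hTH hT _).1 hs) ((M.mem_iff_cube hTH hT _).1 ht'))
      have hc : g⁻¹ * s * g ∈ H := by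
        refine hC _ ht ht1 (Subgroup.mem_centralizer_singleton_iff.2 ?_)
        calc g⁻¹ * s * g * (a * a) = g⁻¹ * (s * (g * (a * a) * g⁻¹)) * g := by group
          _ = g⁻¹ * (g * (a * a) * g⁻¹ * s) * g := by rw [h1]
          _ = a * a * (g⁻¹ * s * g) := by group
      refine (M.mem_iff_cube hTH hT ⟨_, hc⟩).2 (Subtype.ext ?_)
      have h3 : s ^ 3 = 1 := congrArg Subtype.val ((M.mem_iff_cube hTH hT ⟨s, hTH hs⟩).1 hs)
      simp only [SubmonoidClass.coe_pow, OneMemClass.coe_one]
      calc (g⁻¹ * s * g) ^ 3 = g⁻¹ * s ^ 3 * g := by simp [pow_succ, mul_assoc]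
        _ = 1 := by rw [h3]; group
    rw [← hN]
    have hg' : g⁻¹ ∈ Subgroup.normalizer (T : Set G) :=
      Subgroup.mem_normalizer_fintype fun s hs => by simpa using hstep s hs
    simpa using inv_mem hg'

theorem gram [Fintype G] [Fintype H] (hX : ControlledSet H (bigSet H)) :
    Gram irrDeg (Chars.trivialIrr G) (fun i => coeff (G := G) (M.vc_A i))
      (fun i => coeff (G := G) (M.vc_C i)) (coeff (G := G) M.vc_B) (coeff (G := G) M.vc_P) := by
  have sA : ∀ i, Supported (bigSet H) (M.lift (fA i)) := fun i =>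
    M.supported fun σ h1 h2 => (vanish σ h1 h2).1 i
  have sC : ∀ i, Supported (bigSet H) (M.lift (fC i)) := fun i =>
    M.supported fun σ h1 h2 => (vanish σ h1 h2).2.1 i
  have sB : Supported (bigSet H) (M.lift fB) := M.supported fun σ h1 h2 => (vanish σ h1 h2).2.2.1
  have sP : Supported (bigSet H) (M.lift fP) := M.supported fun σ h1 h2 => (vanish σ h1 h2).2.2.2
  have hpair : ∀ (f g : Tri → ℤ) (hf : IsGeneralizedCharacter H (M.lift f))
      (hg : IsGeneralizedCharacter H (M.lift g)), Supported (bigSet H) (M.lift f) →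
      Supported (bigSet H) (M.lift g) → ∀ k : ℤ, ∑ σ ∈ evenSet, f σ * g σ = 108 * k →
      idot (coeff (G := G) hf) (coeff (G := G) hg) = k := by
    intro f g hf hg sf sg k hk
    have := idot_coeff hX hf hg sf sg
    rw [M.classInner_lift f g hk] at this
    exact_mod_cast this
  have hone : ∀ (f : Tri → ℤ) (hf : IsGeneralizedCharacter H (M.lift f)) (k : ℤ),
      ∑ σ ∈ evenSet, f σ = 108 * k → coeff (G := G) hf (Chars.trivialIrr G) = k := by
    intro f hf k hk
    have := coeff_trivial (G := G) hf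
    have e := M.classInner_lift f (fun _ => 1) (k := k) (by simpa using hk)
    have e' : classInner (M.lift f) (fun _ => 1) = k := by
      rw [← e]; congr 1; funext x; simp [lift]
    rw [e'] at this
    exact_mod_cast this
  constructor
  · have := irrDeg_spec (Chars.trivialIrr G)
    rw [Chars.trivialIrr_apply] at this
    exact_mod_cast this.symm
  · exact irrDeg_ne_zero
  · exact fun i => hone _ _ 1 (by rw [sum_A]; norm_num)
  · exact fun i => hone _ _ 0 (by rw [sum_C]; norm_num)
  · exact hone _ _ 1 (by rw [sum_B]; norm_num)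
  · exact hone _ _ 0 (by rw [sum_P]; norm_num)
  · exact fun i => idot_coeff_deg one_not_mem_bigSet _ (sA i)
  · exact idot_coeff_deg one_not_mem_bigSet _ sP
  · exact fun i j => hpair _ _ _ _ (sA i) (sA j) _ (gram_A i j)
  · exact fun i => hpair _ _ _ _ sB (sA i) _ (gram_BA i)
  · exact hpair _ _ _ _ sB sB _ gram_BB
  · exact hpair _ _ _ _ sP sP _ gram_PP
  · exact fun i => hpair _ _ _ _ sP (sA i) _ (by rw [gram_PA]; norm_num)
  · exact hpair _ _ _ _ sP sB _ (by rw [gram_PB]; norm_num)
  · exact fun i => hpair _ _ _ _ (sC i) (sC i) _ (gram_CC i)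
  · exact fun i j => hpair _ _ _ _ (sC i) (sA j) _ (gram_CA i j)
  · exact fun i => hpair _ _ _ _ (sC i) sB _ (gram_CB i)
  · exact fun i => hpair _ _ _ _ (sC i) sP _ (by rw [gram_CP]; norm_num)

end Model

end Cfsg.Agent.Lib.Higman3
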