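import Mathlib
import Cfsg.Agent.Lib.Higman3.Virtual
import Cfsg.Agent.Lib.Higman3.Algebra
import Cfsg.Agent.Lib.Coprime.Generation

/-!
A subgroup isomorphic to the even triples which controls its subgroup of order 27 is the whole group.
-/

set_option autoImplicit false

namespace Cfsg.Agent.Lib.Higman3

open Cfsg Cfsg.Agent.Lib
open scoped ComplexConjugate

theorem exists_co_single : ∀ i : Fin 3, ∃ σ ∈ evenSet, σ ≠ 1 ∧ σ * σ = 1 ∧ co i σ = 1 := by
  decide +kernel

theorem fin_ne : ∀ d : Fin 3, ¬(d = d + 1 ∨ d = d + 2) := by decide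

theorem set_cases : ∀ S : Finset (Fin 3), ∀ i ∈ S,
    S = {i} ∨ S = Finset.univ ∨ ∃ d, S = {d + 1, d + 2} := by decide

variable {G : Type*} [Group G]

/-- The value at `s` of a character, as an integer when `s` is an involution. -/
noncomputable def intVal (χ : IrrCharacter G) (s : G) : ℤ := by
  classical exact if h : ∃ k : ℤ, (χ : G → ℂ) s = k then h.choose else 0

theorem intVal_spec [Finite G] (χ : IrrCharacter G) {s : G} (hs : s * s = 1) :
    (χ : G → ℂ) s = intVal χ s := by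
  classical
  rw [intVal, dif_pos (exists_int_value_involution χ hs)]
  exact (exists_int_value_involution χ hs).choose_spec

variable [Fintype G] [DecidableEq G] {H : Subgroup G} [Fintype H] (M : Model H)

namespace Model

/-- The conjugates of `s`. -/
noncomputable def classOf (s : G) : Finset G := by
  classical exact Finset.univ.filter fun u => IsConj s u

theorem mem_classOf {s u : G} : u ∈ classOf s ↔ IsConj s u := by
  classical simp [classOf]

/-- The classes of involutions of `H` in the class of `s`. -/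
noncomputable def coordSet (s : G) : Finset (Fin 3) := by
  classical exact Finset.univ.filter fun i => ∃ h : H, IsConj s (h : G) ∧ co i (M.psi h) = 1

theorem mem_coordSet {s : G} {i : Fin 3} :
    i ∈ coordSet M s ↔ ∃ h : H, IsConj s (h : G) ∧ co i (M.psi h) = 1 := by
  classical simp [coordSet]

theorem sq_eq_one_of_isConj {s u : G} (hs : s * s = 1) (h : IsConj s u) : u * u = 1 := by
  obtain ⟨c, rfl⟩ := isConj_iff.1 h
  calc c * s * c⁻¹ * (c * s * c⁻¹) = c * (s * s) * c⁻¹ := by group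
    _ = 1 := by rw [hs]; group

theorem ne_one_of_isConj {s u : G} (hs : s ≠ 1) (h : IsConj s u) : u ≠ 1 := fun e => by
  rw [e, isConj_comm, isConj_one_right] at h
  exact hs h

theorem psi_mem_invSet {h : H} (h2 : (h : G) * h = 1) (h1 : (h : G) ≠ 1) {S : Finset (Fin 3)}
    {i : Fin 3} (hi : i ∈ S) (hc : co i (M.psi h) = 1) : M.psi h ∈ invSet S := by
  refine Finset.mem_filter.2 ⟨M.mem h, fun e => h1 ?_, ?_, i, hi, hc⟩
  · rw [(map_eq_one_iff _ M.inj).1 e]; rfl
  · rw [← map_mul, show h * h = 1 from Subtype.ext h2, map_one]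

/-- Two involutions of `H` with the same trivial coordinate are conjugate. -/
theorem isConj_of_co {h k : H} (hh2 : (h : G) * h = 1) (hh1 : (h : G) ≠ 1)
    (hk2 : (k : G) * k = 1) (hk1 : (k : G) ≠ 1) {i : Fin 3} (hh : co i (M.psi h) = 1)
    (hk : co i (M.psi k) = 1) : IsConj (h : G) k := by
  obtain ⟨γ, hγ, e⟩ := isConj_invSet i _ (M.psi_mem_invSet hh2 hh1 (Finset.mem_singleton_self i) hh) _
    (M.psi_mem_invSet hk2 hk1 (Finset.mem_singleton_self i) hk)
  obtain ⟨g, rfl⟩ := (M.range γ).1 hγ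
  rw [← map_mul, ← map_mul] at e
  refine isConj_iff.2 ⟨g, mul_inv_eq_iff_eq_mul.2 ?_⟩
  exact congrArg Subtype.val (M.inj e)

theorem sum_class_pairs {s : G} (hs1 : s ≠ 1) (hs2 : s * s = 1) (f : Tri → ℤ) (KH : Finset H)
    (hKH : ∀ h : H, h ∈ KH ↔ (h : G) ∈ classOf s) :
    ∑ u ∈ KH, ∑ v ∈ KH, f (M.psi (u * v)) =
      ∑ u ∈ invSet (coordSet M s), ∑ v ∈ invSet (coordSet M s), f (u * v) := by
  have himg : KH.map ⟨M.psi, M.inj⟩ = invSet (coordSet M s) := by
    ext σ
    simp only [Finset.mem_map, Function.Embedding.coeFn_mk]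
    constructor
    · rintro ⟨h, hh, rfl⟩
      have hc := mem_classOf.1 ((hKH h).1 hh)
      have h1 := ne_one_of_isConj hs1 hc
      obtain ⟨i, hi, -⟩ := exists_co_one _ (M.mem h) (fun e => h1 (by
        rw [(map_eq_one_iff _ M.inj).1 e]; rfl)) (by
        rw [← map_mul, show h * h = 1 from Subtype.ext (sq_eq_one_of_isConj hs2 hc), map_one])
      exact M.psi_mem_invSet (sq_eq_one_of_isConj hs2 hc) h1 ((mem_coordSet M).2 ⟨h, hc, hi⟩) hi
    · intro hσ
      obtain ⟨hσe, hσ1, hσ2, i, hi, hco⟩ := Finset.mem_filter.1 hσ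
      obtain ⟨h, rfl⟩ := (M.range σ).1 hσe
      obtain ⟨k, hk, hkc⟩ := (mem_coordSet M).1 hi
      refine ⟨h, (hKH h).2 (mem_classOf.2 (hk.trans ?_)), rfl⟩
      refine M.isConj_of_co (sq_eq_one_of_isConj hs2 hk) (ne_one_of_isConj hs1 hk) ?_ ?_ hkc hco
      · exact congrArg Subtype.val (M.inj (by rw [map_mul, hσ2, map_one]) : h * h = 1)
      · exact fun e => hσ1 (by rw [show h = 1 from Subtype.ext e, map_one])
  rw [← himg]
  simp only [Finset.sum_map, Function.Embedding.coeFn_mk, map_mul]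

/-- The three functionals on a vector of shared units. -/
theorem functionals (hX : ControlledSet H (bigSet H)) {f : Tri → ℤ}
    (hf : IsGeneralizedCharacter H (M.lift f)) (hfs : Supported (bigSet H) (M.lift f))
    {κ : Type} [Fintype κ] {c : κ → ℤ} {p : κ → IrrCharacter G}
    (hv : ∀ w, idot (coeff (G := G) hf) w = ∑ k, c k * w (p k)) {s : G} (hs1 : s ≠ 1)
    (hs2 : s * s = 1) :
    ∑ k, c k * irrDeg (p k) = 0 ∧ ∑ k, c k * intVal (p k) s = 0 ∧
      ∑ k, (c k : ℚ) * ((intVal (p k) s : ℚ) ^ 2 / irrDeg (p k)) =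
        (H.index : ℚ) / ((classOf s).card : ℚ) ^ 2 *
          ((∑ u ∈ invSet (coordSet M s), ∑ v ∈ invSet (coordSet M s), f (u * v) : ℤ) : ℚ) := by
  classical
  refine ⟨(hv irrDeg).symm.trans (idot_coeff_deg one_not_mem_bigSet hf hfs), ?_, ?_⟩
  · have h := indFun_apply_eq_sum (G := G) hf s
    rw [indFun_eq_zero hfs fun x hx => hx.2 (by
      calc x⁻¹ * s * x * (x⁻¹ * s * x) = x⁻¹ * (s * s) * x := by group
        _ = 1 := by rw [hs2]; group), idot_cast hv] at h
    simp only [intVal_spec _ hs2] at h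
    exact_mod_cast h.symm
  · set K := classOf s with hKdef
    have hK : ∀ u ∈ K, ∀ x : G, x * u * x⁻¹ ∈ K := fun u hu x =>
      mem_classOf.2 ((mem_classOf.1 hu).trans (isConj_iff.2 ⟨x, rfl⟩))
    have hinv : ∀ u ∈ K, u * u = 1 := fun u hu => sq_eq_one_of_isConj hs2 (mem_classOf.1 hu)
    let KH : Finset H := Finset.univ.filter fun h => (h : G) ∈ K
    have hKH : ∀ h : H, h ∈ KH ↔ (h : G) ∈ K := fun h => by simp [KH]
    have h := sum_coeff_pairs hX hf hfs K hK hinv KH hKH
    rw [idot_cast hv] at h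
    have hsum : ∀ χ : IrrCharacter G, ∑ u ∈ K, (χ : G → ℂ) u = (K.card : ℂ) * (intVal χ s : ℂ) := by
      intro χ
      rw [← intVal_spec χ hs2, Finset.sum_congr rfl (g := fun _ => (χ : G → ℂ) s) fun u hu =>
        Chars.isClassFunction_apply_eq (Chars.irr_isClassFunction χ) (mem_classOf.1 hu),
        Finset.sum_const, nsmul_eq_mul]
    have hK0 : (K.card : ℂ) ≠ 0 :=
      Nat.cast_ne_zero.2 (Finset.card_ne_zero.2 ⟨s, mem_classOf.2 (IsConj.refl s)⟩)
    have hidx : (Nat.card G : ℂ) / (Nat.card H : ℂ) = (H.index : ℂ) := by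
      rw [div_eq_iff (Nat.cast_ne_zero.2 Nat.card_pos.ne'), ← H.card_mul_index]
      push_cast; ring
    have hpair : ∑ u ∈ KH, ∑ v ∈ KH, M.lift f (u * v) =
        ((∑ u ∈ invSet (coordSet M s), ∑ v ∈ invSet (coordSet M s), f (u * v) : ℤ) : ℂ) := by
      rw [← M.sum_class_pairs hs1 hs2 f KH hKH]
      simp [lift]
    simp only [hsum, irrDeg_spec, hidx, hpair] at h
    have h' : (K.card : ℂ) ^ 2 * ∑ k, (c k : ℂ) * ((intVal (p k) s : ℂ) ^ 2 / (irrDeg (p k) : ℂ)) =
        (H.index : ℂ) *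
          ((∑ u ∈ invSet (coordSet M s), ∑ v ∈ invSet (coordSet M s), f (u * v) : ℤ) : ℂ) := by
      rw [← h, Finset.mul_sum]
      exact Finset.sum_congr rfl fun k _ => by ring
    have hKq : (K.card : ℚ) ≠ 0 := by exact_mod_cast hK0
    rw [div_mul_eq_mul_div, eq_div_iff (pow_ne_zero 2 hKq), mul_comm]
    apply Rat.cast_injective (α := ℂ)
    push_cast at h' ⊢
    exact h'

variable {a : Fin 3 → IrrCharacter G} {ε : Fin 3 → ℤ}

/-- Signed degree. -/
noncomputable def sDeg (a : Fin 3 → IrrCharacter G) (ε : Fin 3 → ℤ) (i : Fin 3) : ℚ :=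
  (ε i : ℚ) * (irrDeg (a i) : ℚ)

/-- Signed value. -/
noncomputable def sVal (a : Fin 3 → IrrCharacter G) (ε : Fin 3 → ℤ) (s : G) (i : Fin 3) : ℚ :=
  (ε i : ℚ) * (intVal (a i) s : ℚ)

theorem sq_div_signed {e : ℤ} (he : e * e = 1) (v d : ℚ) :
    (e : ℚ) * (v ^ 2 / d) = ((e : ℚ) * v) ^ 2 / ((e : ℚ) * d) := by
  rcases Int.eq_one_or_neg_one_of_mul_eq_one he with rfl | rfl <;> simp [div_neg]

theorem invEqs (hX : ControlledSet H (bigSet H)) (hε : ∀ i, ε i * ε i = 1)
    (hA : ∀ i, ∃ (b : IrrCharacter G) (δ : ℤ), δ * δ = 1 ∧ ∀ w,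
      idot (coeff (G := G) (M.vc_A i)) w =
        w (Chars.trivialIrr G) + ε i * w (a i) + δ * w b)
    (hC : ∀ i, ∃ (b : IrrCharacter G) (δ : ℤ), δ * δ = 1 ∧ ∀ w,
      idot (coeff (G := G) (M.vc_C i)) w =
        ε (i + 1) * w (a (i + 1)) + ε (i + 2) * w (a (i + 2)) + δ * w b)
    (hB : ∃ (b : IrrCharacter G) (δ : ℤ), δ * δ = 1 ∧ ∀ w, idot (coeff (G := G) M.vc_B) w =
        w (Chars.trivialIrr G) + ε 0 * w (a 0) + ε 1 * w (a 1) + ε 2 * w (a 2) + δ * w b)
    {s : G} (hs1 : s ≠ 1) (hs2 : s * s = 1) :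
    InvEqs (coordSet M s) ((H.index : ℚ) * 81 / ((classOf s).card : ℚ) ^ 2) (sDeg a ε)
      (sVal a ε s) := by
  have hd1 : irrDeg (Chars.trivialIrr G) = 1 := by
    have := irrDeg_spec (Chars.trivialIrr G)
    rw [Chars.trivialIrr_apply] at this
    exact_mod_cast this.symm
  have hv1 : intVal (Chars.trivialIrr G) s = 1 := by
    have := intVal_spec (Chars.trivialIrr G) hs2
    rw [Chars.trivialIrr_apply] at this
    exact_mod_cast this.symm
  have sA : ∀ i, Supported (bigSet H) (M.lift (fA i)) := fun i =>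
    M.supported fun σ h1 h2 => (vanish σ h1 h2).1 i
  have sC : ∀ i, Supported (bigSet H) (M.lift (fC i)) := fun i =>
    M.supported fun σ h1 h2 => (vanish σ h1 h2).2.1 i
  have sB : Supported (bigSet H) (M.lift fB) := M.supported fun σ h1 h2 => (vanish σ h1 h2).2.2.1
  have hne : ∀ (χ : IrrCharacter G) (e : ℤ), e * e = 1 → (e : ℚ) * (irrDeg χ : ℚ) ≠ 0 :=
    fun χ e he => mul_ne_zero (by exact_mod_cast (fun h => by simp [h] at he : e ≠ 0))
      (by exact_mod_cast irrDeg_ne_zero χ)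
  have eA : ∀ i, 1 + sDeg a ε i ≠ 0 ∧ 1 + sVal a ε s i ^ 2 / sDeg a ε i -
      (1 + sVal a ε s i) ^ 2 / (1 + sDeg a ε i) =
      (H.index : ℚ) * 81 / ((classOf s).card : ℚ) ^ 2 / 2 *
        (((coordSet M s).card : ℚ) - hval (coordSet M s) i) ^ 2 := by
    intro i
    obtain ⟨b, δ, hδ, hw⟩ := hA i
    obtain ⟨g1, g2, g3⟩ := M.functionals hX (M.vc_A i) (sA i) (c := ![1, ε i, δ])
      (p := ![Chars.trivialIrr G, a i, b]) (fun w => by rw [hw]; simp [Fin.sum_univ_three]) hs1 hs2
    have hp := congrArg (Int.cast : ℤ → ℚ) (pair_sum_A (coordSet M s) i)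
    push_cast at hp
    simp [Fin.sum_univ_three, hd1, hv1] at g1 g2 g3
    rw [sq_div_signed (hε i), sq_div_signed hδ] at g3
    have q1 : (δ : ℚ) * irrDeg b = -(1 + sDeg a ε i) := by
      have : ((1 + ε i * irrDeg (a i) + δ * irrDeg b : ℤ) : ℚ) = 0 := by exact_mod_cast g1
      push_cast at this; simp only [sDeg]; linarith
    have q2 : (δ : ℚ) * intVal b s = -(1 + sVal a ε s i) := by
      have : ((1 + ε i * intVal (a i) s + δ * intVal b s : ℤ) : ℚ) = 0 := by exact_mod_cast g2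
      push_cast at this; simp only [sVal]; linarith
    have := hne b δ hδ
    rw [q1] at this
    refine ⟨fun h => this (by rw [h, neg_zero]), ?_⟩
    rw [q1, q2, neg_sq, div_neg] at g3
    simp only [sDeg, sVal] at g3 ⊢
    linear_combination g3 + ((H.index : ℚ) / ((classOf s).card : ℚ) ^ 2 / 2) * hp
  have eC : ∀ i, sDeg a ε (i + 1) + sDeg a ε (i + 2) ≠ 0 ∧
      sVal a ε s (i + 1) ^ 2 / sDeg a ε (i + 1) + sVal a ε s (i + 2) ^ 2 / sDeg a ε (i + 2) -
      (sVal a ε s (i + 1) + sVal a ε s (i + 2)) ^ 2 / (sDeg a ε (i + 1) + sDeg a ε (i + 2)) =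
      (H.index : ℚ) * 81 / ((classOf s).card : ℚ) ^ 2 / 2 *
        ((hval (coordSet M s) (i + 1) : ℚ) - hval (coordSet M s) (i + 2)) ^ 2 := by
    intro i
    obtain ⟨b, δ, hδ, hw⟩ := hC i
    obtain ⟨g1, g2, g3⟩ := M.functionals hX (M.vc_C i) (sC i) (c := ![ε (i + 1), ε (i + 2), δ])
      (p := ![a (i + 1), a (i + 2), b]) (fun w => by rw [hw]; simp [Fin.sum_univ_three]) hs1 hs2
    have hp := congrArg (Int.cast : ℤ → ℚ) (pair_sum_C (coordSet M s) i)
    push_cast at hp
    simp [Fin.sum_univ_three] at g1 g2 g3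
    rw [sq_div_signed (hε (i + 1)), sq_div_signed (hε (i + 2)), sq_div_signed hδ] at g3
    have q1 : (δ : ℚ) * irrDeg b = -(sDeg a ε (i + 1) + sDeg a ε (i + 2)) := by
      have : ((ε (i + 1) * irrDeg (a (i + 1)) + ε (i + 2) * irrDeg (a (i + 2)) +
        δ * irrDeg b : ℤ) : ℚ) = 0 := by exact_mod_cast g1
      push_cast at this; simp only [sDeg]; linarith
    have q2 : (δ : ℚ) * intVal b s = -(sVal a ε s (i + 1) + sVal a ε s (i + 2)) := by
      have : ((ε (i + 1) * intVal (a (i + 1)) s + ε (i + 2) * intVal (a (i + 2)) s +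
        δ * intVal b s : ℤ) : ℚ) = 0 := by exact_mod_cast g2
      push_cast at this; simp only [sVal]; linarith
    have := hne b δ hδ
    rw [q1] at this
    refine ⟨fun h => this (by rw [h, neg_zero]), ?_⟩
    rw [q1, q2, neg_sq, div_neg] at g3
    simp only [sDeg, sVal] at g3 ⊢
    linear_combination g3 + ((H.index : ℚ) / ((classOf s).card : ℚ) ^ 2 / 2) * hp
  obtain ⟨b, δ, hδ, hw⟩ := hB
  obtain ⟨g1, g2, g3⟩ := M.functionals hX M.vc_B sB (c := ![1, ε 0, ε 1, ε 2, δ])
    (p := ![Chars.trivialIrr G, a 0, a 1, a 2, b])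
    (fun w => by rw [hw]; simp [Fin.sum_univ_five]) hs1 hs2
  have hp := congrArg (Int.cast : ℤ → ℚ) (pair_sum_B (coordSet M s))
  push_cast at hp
  simp [Fin.sum_univ_five, hd1, hv1] at g1 g2 g3
  rw [sq_div_signed (hε 0), sq_div_signed (hε 1), sq_div_signed (hε 2), sq_div_signed hδ] at g3
  have q1 : (δ : ℚ) * irrDeg b = -(1 + (sDeg a ε 0 + sDeg a ε 1 + sDeg a ε 2)) := by
    have : ((1 + ε 0 * irrDeg (a 0) + ε 1 * irrDeg (a 1) + ε 2 * irrDeg (a 2) +
      δ * irrDeg b : ℤ) : ℚ) = 0 := by exact_mod_cast g1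
    push_cast at this; simp only [sDeg]; linarith
  have q2 : (δ : ℚ) * intVal b s = -(1 + (sVal a ε s 0 + sVal a ε s 1 + sVal a ε s 2)) := by
    have : ((1 + ε 0 * intVal (a 0) s + ε 1 * intVal (a 1) s + ε 2 * intVal (a 2) s +
      δ * intVal b s : ℤ) : ℚ) = 0 := by exact_mod_cast g2
    push_cast at this; simp only [sVal]; linarith
  have := hne b δ hδ
  rw [q1] at this
  refine ⟨?_, fun i => hne (a i) (ε i) (hε i), fun i => (eA i).1, fun i => (eC i).1,
    fun h => this (by rw [h, neg_zero]), fun i => (eA i).2, fun i => (eC i).2, ?_⟩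
  · have h1 : 0 < (H.index : ℚ) := Nat.cast_pos.2 (Nat.pos_of_ne_zero Subgroup.index_ne_zero_of_finite)
    have h2 : 0 < ((classOf s).card : ℚ) :=
      Nat.cast_pos.2 (Finset.card_pos.2 ⟨s, mem_classOf.2 (IsConj.refl s)⟩)
    positivity
  · rw [q1, q2, neg_sq, div_neg] at g3
    simp only [sDeg, sVal] at g3 ⊢
    linear_combination g3 + ((H.index : ℚ) / ((classOf s).card : ℚ) ^ 2 / 4) * hp

include M in
/-- The shared characters are linear, and one of them is nontrivial on every involution of `H`. -/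
theorem exists_homs (hX : ControlledSet H (bigSet H)) :
    ∃ L : Fin 3 → (G →* ℂˣ), ∀ h : H, (h : G) ≠ 1 → (h : G) * h = 1 → ∃ i, L i h ≠ 1 := by
  obtain ⟨a, ε, hε, hA, hC, hB⟩ := (M.gram hX).exists_units
  have hE := fun (s : G) (h1 : s ≠ 1) (h2 : s * s = 1) => M.invEqs hX hε hA hC hB h1 h2
  have hlin : ∀ i, sDeg a ε i = 1 → ε i = 1 ∧ (a i : G → ℂ) 1 = 1 := by
    intro i h
    have h' : ε i * irrDeg (a i) = 1 := by simp only [sDeg] at h; exact_mod_cast h
    have h0 := irrDeg_nonneg (a i)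
    rcases Int.eq_one_or_neg_one_of_mul_eq_one h' with e | e <;> rw [e] at h' <;>
      simp at h'
    · exact ⟨e, by rw [irrDeg_spec, h']; norm_num⟩
    · omega
  have hinv : ∀ i, ∃ h : H, (h : G) ≠ 1 ∧ (h : G) * h = 1 ∧ co i (M.psi h) = 1 ∧
      i ∈ coordSet M (h : G) := by
    intro i
    obtain ⟨σ, hσ, h1, h2, hc⟩ := exists_co_single i
    obtain ⟨h, rfl⟩ := (M.range σ).1 hσ
    refine ⟨h, fun e => h1 ?_, congrArg Subtype.val (M.inj ?_ : h * h = 1), hc,
      (mem_coordSet M).2 ⟨h, IsConj.refl _, hc⟩⟩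
    · rw [show h = 1 from Subtype.ext e, map_one]
    · rw [map_mul, h2, map_one]
  have hall : ∀ i, sDeg a ε i = 1 := by
    intro i
    obtain ⟨h, h1, h2, -, hi⟩ := hinv i
    have hS := hE _ h1 h2
    rcases set_cases _ i hi with e | e | ⟨d, e⟩
    · rw [e] at hS; exact hS.singleton
    · rw [e] at hS; exact hS.triple i
    · obtain ⟨k, k1, k2, -, hd⟩ := hinv d
      have hSd : coordSet M (k : G) = {d} := by
        refine Finset.eq_singleton_iff_unique_mem.2 ⟨hd, fun j hj => ?_⟩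
        by_contra hjd
        have hjS : j ∈ coordSet M (h : G) := by
          rw [e]
          have := (fin_add d j).2.2.2.2
          simp only [Finset.mem_insert, Finset.mem_singleton]
          tauto
        obtain ⟨u, hu, huc⟩ := (mem_coordSet M).1 hjS
        obtain ⟨v, hv, hvc⟩ := (mem_coordSet M).1 hj
        have huv := M.isConj_of_co (sq_eq_one_of_isConj h2 hu) (ne_one_of_isConj h1 hu)
          (sq_eq_one_of_isConj k2 hv) (ne_one_of_isConj k1 hv) huc hvc
        obtain ⟨w, hw, hwc⟩ := (mem_coordSet M).1 hd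
        have hmem : d ∈ coordSet M (h : G) :=
          (mem_coordSet M).2 ⟨w, hu.trans (huv.trans (hv.symm.trans hw)), hwc⟩
        rw [e] at hmem
        simp only [Finset.mem_insert, Finset.mem_singleton] at hmem
        exact fin_ne d hmem
      have hxd : sDeg a ε d = 1 := by
        have := hE _ k1 k2
        rw [hSd] at this
        exact this.singleton
      have hsq : sVal a ε (h : G) d * sVal a ε (h : G) d = 1 := by
        obtain ⟨he, hd1⟩ := hlin d hxd
        obtain ⟨φ, hφ⟩ := Chars.exists_hom_of_degree_one (Chars.irr_isCharacter (a d)) hd1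
        have hv := intVal_spec (a d) h2
        have : ((intVal (a d) (h : G) * intVal (a d) (h : G) : ℤ) : ℂ) = 1 := by
          push_cast
          rw [← hv, hφ]
          simp only
          rw [← Units.val_mul, ← map_mul, h2, map_one, Units.val_one]
        have h' : intVal (a d) (h : G) * intVal (a d) (h : G) = 1 := by exact_mod_cast this
        simp only [sVal, he, Int.cast_one, one_mul]
        exact_mod_cast h'
      rw [e] at hS
      exact hS.double hxd hsq i
  choose L hL using fun i =>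
    Chars.exists_hom_of_degree_one (Chars.irr_isCharacter (a i)) (hlin i (hall i)).2
  refine ⟨L, fun h h1 h2 => ?_⟩
  obtain ⟨j, -, hj⟩ : ∃ j, True ∧ j ∈ coordSet M (h : G) := by
    obtain ⟨j, hj, -⟩ := exists_co_one _ (M.mem h) (fun e => h1 (by
      rw [(map_eq_one_iff _ M.inj).1 e]; rfl)) (by
      rw [← map_mul, show h * h = 1 from Subtype.ext h2, map_one])
    exact ⟨j, trivial, (mem_coordSet M).2 ⟨h, IsConj.refl _, hj⟩⟩
  obtain ⟨i, hi⟩ := (hE _ h1 h2).exists_ne_one ⟨j, hj⟩ hall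
  refine ⟨i, fun e => hi ?_⟩
  have hv := intVal_spec (a i) h2
  rw [hL i] at hv
  simp only [e, Units.val_one] at hv
  have h' : intVal (a i) (h : G) = 1 := by exact_mod_cast hv.symm
  simp [sVal, h', (hlin i (hall i)).1]

omit [Fintype G] [DecidableEq G] [Fintype H] in
include M in
/-- A subgroup isomorphic to the even triples controlling its subgroup of order 27 is everything. -/
theorem eq_top [Finite G] {T : Subgroup G} (hTH : T ≤ H) (hT : Nat.card T = 27)
    (hN : Subgroup.normalizer (T : Set G) = H)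
    (hC : ∀ t ∈ T, t ≠ 1 → Subgroup.centralizer ({t} : Set G) ≤ H) : H = ⊤ := by
  classical
  haveI := Fintype.ofFinite G
  haveI := Fintype.ofFinite H
  haveI : Fact (Nat.Prime 3) := ⟨by norm_num⟩
  obtain ⟨L, hL⟩ := M.exists_homs (M.controlled hTH hT hN hC)
  let N : Subgroup G := ⨅ i, (L i).ker
  have hmemN : ∀ g, g ∈ N ↔ ∀ i, L i g = 1 := fun g => by simp [N, Subgroup.mem_iInf]
  have hTN : T ≤ N := fun t ht => (hmemN t).2 fun i =>
    M.hom_eq_one_of_cube ((L i).comp H.subtype) (h := ⟨t, hTH ht⟩) ((M.mem_iff_cube hTH hT _).1 ht)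
  have hNH : ∀ g, g ∈ N → g ∈ H → g ∈ T := by
    intro g hgN hgH
    refine (M.mem_iff_cube hTH hT ⟨g, hgH⟩).2 ?_
    by_contra hne
    set h : H := ⟨g, hgH⟩ ^ 3 with hh
    have h2 : h * h = 1 := by
      rw [hh, ← pow_add]; exact M.pow_six _
    obtain ⟨i, hi⟩ := hL h (fun e => hne (Subtype.ext e)) (congrArg Subtype.val h2)
    exact hi ((hmemN _).1 (N.pow_mem hgN 3) i)
  let T' : Subgroup N := T.subgroupOf N
  have hT' : Nat.card T' = 27 := by
    rw [← hT]; exact Nat.card_congr (Subgroup.subgroupOfEquivOfLe hTN).toEquiv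
  have hnormT : Subgroup.normalizer (T' : Set N) = T' := by
    refine le_antisymm (fun x hx => ?_) Subgroup.le_normalizer
    refine Subgroup.mem_subgroupOf.2 (hNH x x.2 ?_)
    rw [← hN]
    refine Subgroup.mem_normalizer_fintype fun t ht => ?_
    exact Subgroup.mem_subgroupOf.1 ((Subgroup.mem_normalizer_iff.1 hx ⟨t, hTN ht⟩).1
      (Subgroup.mem_subgroupOf.2 ht))
  have hcube : ∀ x ∈ T', x ^ 3 = 1 := fun x hx => Subtype.ext (congrArg Subtype.val
    ((M.mem_iff_cube hTH hT ⟨x, hTH hx⟩).1 hx) :)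
  have hindex : ¬ 3 ∣ T'.index := by
    intro hd
    have h81 : 3 ^ (3 + 1) ∣ Nat.card N := by
      rw [← T'.card_mul_index, hT']
      exact mul_dvd_mul_left 27 hd
    have := Sylow.prime_dvd_card_quotient_normalizer h81 (H := T') (by rw [hT']; norm_num)
    rw [← Subgroup.index_eq_card, show Subgroup.comap (Subgroup.normalizer (T' : Set N)).subtype T' = ⊤ from
      Subgroup.subgroupOf_eq_top.2 hnormT.le, Subgroup.index_top] at this
    norm_num at this
  let P : Sylow 3 N := (IsPGroup.of_card (n := 3) (by rw [hT']; norm_num)).toSylow hindex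
  have hPC : Subgroup.normalizer ((P : Subgroup N) : Set N) ≤
      Subgroup.centralizer ((P : Subgroup N) : Set N) := by
    show Subgroup.normalizer (T' : Set N) ≤ Subgroup.centralizer (T' : Set N)
    rw [hnormT]
    intro x hx y hy
    refine Subtype.ext ?_
    have e := M.comm_of_cube (h := ⟨y, hTH hy⟩) (k := ⟨x, hTH hx⟩)
      ((M.mem_iff_cube hTH hT _).1 hy) ((M.mem_iff_cube hTH hT _).1 hx)
    exact (congrArg Subtype.val e :)
  set Q := (MonoidHom.transferSylow P hPC).ker with hQdef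
  have hQc : Subgroup.IsComplement' Q T' := MonoidHom.ker_transferSylow_isComplement' P hPC
  have hQ3 : ¬ 3 ∣ Nat.card Q := MonoidHom.not_dvd_card_ker_transferSylow P hPC
  have hQn : Q.Normal := MonoidHom.normal_ker _
  haveI : IsMulCommutative T' := ⟨⟨fun x y => Subtype.ext (hPC (Subgroup.le_normalizer y.2) x x.2)⟩⟩
  have hncyc : ¬ IsCyclic T' := by
    intro hc
    obtain ⟨g, hg⟩ := hc.exists_generator
    have h1 : orderOf g = 27 := by rw [orderOf_eq_card_of_forall_mem_zpowers hg, hT']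
    have h2 : orderOf g ∣ 3 := orderOf_dvd_of_pow_eq_one (Subtype.ext (hcube _ g.2))
    rw [h1] at h2
    norm_num at h2
  have hQbot : Q = ⊥ := by
    refine le_bot_iff.1 (Coprime.le_of_noncyclic hncyc ?_ ?_ ?_)
    · rw [Subgroup.normalizer_eq_top_iff.2 hQn]; exact le_top
    · rw [hT']
      exact ((Nat.Prime.coprime_iff_not_dvd (by norm_num)).2 hQ3).pow_left 3
    · intro t ht ht1 x hx
      obtain ⟨hxQ, hxc⟩ := Subgroup.mem_inf.1 hx
      have hc : (x : G) * t = t * x :=
        congrArg Subtype.val (Subgroup.mem_centralizer_singleton_iff.1 hxc)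
      have hxH : (x : G) ∈ H := hC t ht (fun e => ht1 (Subtype.ext e))
        (Subgroup.mem_centralizer_singleton_iff.2 hc)
      have hxT : x ∈ T' := hNH _ x.2 hxH
      exact (Subgroup.disjoint_def.1 hQc.disjoint) hxQ hxT ▸ Subgroup.one_mem _
  have htop : T' = ⊤ := by
    rw [hQbot, Subgroup.isComplement'_bot_left] at hQc
    exact hQc
  have hNT : N = T := le_antisymm (Subgroup.subgroupOf_eq_top.1 htop) hTN
  haveI : N.Normal := Subgroup.normal_iInf_normal fun i => MonoidHom.normal_ker (L i)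
  rw [← hN, ← hNT]
  exact Subgroup.normalizer_eq_top_iff.2 inferInstance

end Model

end Cfsg.Agent.Lib.Higman3
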