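import Mathlib
import Cfsg.Agent.Lib.Higman3.Coeff

/-!
Products of involutions from two normal sets.
-/

set_option autoImplicit false

namespace Cfsg.Agent.Lib.Higman3

open Cfsg Cfsg.Agent.Lib

variable {G : Type*} [Group G] [Fintype G] {H : Subgroup G} {X : Set G}

theorem sum_two_indFun [Fintype H] [DecidableEq G] (hX : ControlledSet H X) {φ : H → ℂ}
    (hs : Supported X φ) (K L : Finset G) (hK : ∀ u ∈ K, ∀ x : G, x * u * x⁻¹ ∈ K)
    (hL : ∀ u ∈ L, ∀ x : G, x * u * x⁻¹ ∈ L)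
    (hKi : ∀ u ∈ K, u * u = 1) (hLi : ∀ u ∈ L, u * u = 1) (KH LH : Finset H)
    (hKH : ∀ h : H, h ∈ KH ↔ (h : G) ∈ K) (hLH : ∀ h : H, h ∈ LH ↔ (h : G) ∈ L) :
    ∑ u ∈ K, ∑ v ∈ L, indFun H φ (u * v) =
      (Nat.card G : ℂ) / (Nat.card H : ℂ) * ∑ u ∈ KH, ∑ v ∈ LH, φ (u * v) := by
  classical
  have hconj : ∀ M : Finset G, (∀ u ∈ M, ∀ x : G, x * u * x⁻¹ ∈ M) →
      ∀ x : G, ∀ F : G → ℂ, ∑ u ∈ M, F (x⁻¹ * u * x) = ∑ u ∈ M, F u := fun M hM x F =>
    Finset.sum_nbij' (fun u => x⁻¹ * u * x) (fun u => x * u * x⁻¹)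
      (fun u hu => by simpa using hM u hu x⁻¹) (fun u hu => hM u hu x)
      (fun u _ => by group) (fun u _ => by group) (fun u _ => rfl)
  have h1 : ∑ u ∈ K, ∑ v ∈ L, indFun H φ (u * v) =
      (Nat.card G : ℂ) / (Nat.card H : ℂ) * ∑ u ∈ K, ∑ v ∈ L, extendByZero H φ (u * v) := by
    have h0 : ∀ x : G, ∑ u ∈ K, ∑ v ∈ L, extendByZero H φ (x⁻¹ * (u * v) * x) =
        ∑ u ∈ K, ∑ v ∈ L, extendByZero H φ (u * v) := fun x => by
      calc ∑ u ∈ K, ∑ v ∈ L, extendByZero H φ (x⁻¹ * (u * v) * x)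
          = ∑ u ∈ K, ∑ v ∈ L, extendByZero H φ (x⁻¹ * u * x * (x⁻¹ * v * x)) := by
            refine Finset.sum_congr rfl fun u _ => Finset.sum_congr rfl fun v _ => ?_
            congr 1; group
        _ = ∑ u ∈ K, ∑ v ∈ L, extendByZero H φ (x⁻¹ * u * x * v) :=
            Finset.sum_congr rfl fun u _ =>
              hconj L hL x fun v => extendByZero H φ (x⁻¹ * u * x * v)
        _ = ∑ u ∈ K, ∑ v ∈ L, extendByZero H φ (u * v) :=
            hconj K hK x fun u => ∑ v ∈ L, extendByZero H φ (u * v)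
    simp only [indFun, ← Finset.mul_sum]
    rw [Finset.sum_congr rfl fun u _ => Finset.sum_comm, Finset.sum_comm,
      Finset.sum_congr rfl fun x _ => h0 x, Finset.sum_const, Finset.card_univ, nsmul_eq_mul,
      ← Nat.card_eq_fintype_card, div_eq_mul_inv]
    ring
  rw [h1]
  congr 1
  have hmem : ∀ u ∈ K, ∀ v ∈ L, extendByZero H φ (u * v) ≠ 0 → u ∈ H ∧ v ∈ H := by
    intro u hu v hv hne
    by_cases hm : u * v ∈ H
    swap
    · exact absurd (Chars.extendByZero_of_not_mem _ hm) hne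
    rw [Chars.extendByZero_of_mem _ hm] at hne
    have hX' : u * v ∈ X := by
      by_contra h; exact hne (hs ⟨u * v, hm⟩ h)
    have huH : u ∈ H := by
      refine hX.fusion _ hX' u ?_
      have : u * (u * v) * u⁻¹ = (u * v)⁻¹ := by
        rw [mul_inv_rev, inv_eq_of_mul_eq_one_left (hKi u hu),
          inv_eq_of_mul_eq_one_left (hLi v hv), ← mul_assoc, hKi u hu, one_mul]
      rw [this]; exact hX.inv_mem _ hX'
    refine ⟨huH, ?_⟩
    have := H.mul_mem (H.inv_mem huH) hm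
    rwa [inv_mul_cancel_left] at this
  have hsub : ∀ (M : Finset G) (MH : Finset H), (∀ h : H, h ∈ MH ↔ (h : G) ∈ M) →
      MH.map ⟨Subtype.val, Subtype.val_injective⟩ ⊆ M := by
    intro M MH hM g hg
    obtain ⟨h, hh, rfl⟩ := Finset.mem_map.1 hg
    exact (hM h).1 hh
  symm
  calc ∑ u ∈ KH, ∑ v ∈ LH, φ (u * v)
      = ∑ u ∈ KH.map ⟨Subtype.val, Subtype.val_injective⟩,
          ∑ v ∈ LH.map ⟨Subtype.val, Subtype.val_injective⟩, extendByZero H φ (u * v) := by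
        simp only [Finset.sum_map, Function.Embedding.coeFn_mk, ← Subgroup.coe_mul,
          Chars.extendByZero_coe]
    _ = ∑ u ∈ K, ∑ v ∈ LH.map ⟨Subtype.val, Subtype.val_injective⟩, extendByZero H φ (u * v) := by
        refine Finset.sum_subset (hsub K KH hKH) fun u hu hu' => Finset.sum_eq_zero fun v hv => ?_
        by_contra hne
        have huH := (hmem u hu v (hsub L LH hLH hv) hne).1
        exact hu' (Finset.mem_map.2 ⟨⟨u, huH⟩, (hKH _).2 hu, rfl⟩)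
    _ = _ := Finset.sum_congr rfl fun u hu =>
        Finset.sum_subset (hsub L LH hLH) fun v hv hv' => by
          by_contra hne
          exact hv' (Finset.mem_map.2 ⟨⟨v, (hmem u hu v hv hne).2⟩, (hLH _).2 hv, rfl⟩)

/-- An irreducible character on products from two normal sets. -/
theorem sum_two_irr (χ : IrrCharacter G) (K L : Finset G)
    (hK : ∀ u ∈ K, ∀ x : G, x * u * x⁻¹ ∈ K) (hL : ∀ u ∈ L, ∀ x : G, x * u * x⁻¹ ∈ L) :
    ∑ u ∈ K, ∑ v ∈ L, (χ : G → ℂ) (u * v) =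
      (∑ u ∈ K, (χ : G → ℂ) u) * (∑ v ∈ L, (χ : G → ℂ) v) / (χ : G → ℂ) 1 := by
  classical
  obtain ⟨n, ρ, hρ, hχ⟩ := Chars.irr_exists_rep χ
  haveI := hρ
  have hscal : ∀ M : Finset G, (∀ u ∈ M, ∀ x : G, x * u * x⁻¹ ∈ M) →
      ∃ c : ℂ, (∑ u ∈ M, ρ u) = c • (1 : Module.End ℂ (Fin n → ℂ)) ∧
        ∑ u ∈ M, (χ : G → ℂ) u = c * (χ : G → ℂ) 1 := by
    intro M hM
    have hcomm : ∀ h : G, (∑ u ∈ M, ρ u) ∘ₗ ρ h = ρ h ∘ₗ ∑ u ∈ M, ρ u := fun h => by
      simp only [← Module.End.mul_eq_comp, Finset.sum_mul, Finset.mul_sum, ← map_mul]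
      exact Finset.sum_nbij' (fun u => h⁻¹ * u * h) (fun u => h * u * h⁻¹)
        (fun u hu => by simpa using hM u hu h⁻¹) (fun u hu => hM u hu h)
        (fun u _ => by group) (fun u _ => by group) (fun u _ => by congr 1; group)
    obtain ⟨c, hc⟩ := Chars.exists_scalar_of_commute ρ _ hcomm
    refine ⟨c, hc, ?_⟩
    rw [← hχ]
    simp only [Representation.character]
    rw [← map_sum, hc, map_smul, map_one ρ, smul_eq_mul]
  obtain ⟨c, hc, h1⟩ := hscal K hK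
  obtain ⟨d, hd, h2⟩ := hscal L hL
  have h3 : ∑ u ∈ K, ∑ v ∈ L, (χ : G → ℂ) (u * v) = c * d * (χ : G → ℂ) 1 := by
    rw [← hχ]
    simp only [Representation.character, map_mul, ← map_sum, ← Finset.mul_sum, ← Finset.sum_mul,
      hc, hd, map_one, smul_mul_assoc, mul_smul_comm, mul_one, one_mul, smul_smul, map_smul,
      smul_eq_mul]
    ring
  rw [h3, h1, h2, eq_div_iff (Chars.irr_apply_one_ne_zero χ)]
  ring

/-- The identity for products of two involutions from given normal sets. -/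
theorem sum_coeff_two [Fintype H] [DecidableEq G] {φ : H → ℂ} (hX : ControlledSet H X)
    (hφ : IsGeneralizedCharacter H φ) (hs : Supported X φ) (K L : Finset G)
    (hK : ∀ u ∈ K, ∀ x : G, x * u * x⁻¹ ∈ K) (hL : ∀ u ∈ L, ∀ x : G, x * u * x⁻¹ ∈ L)
    (hKi : ∀ u ∈ K, u * u = 1) (hLi : ∀ u ∈ L, u * u = 1) (KH LH : Finset H)
    (hKH : ∀ h : H, h ∈ KH ↔ (h : G) ∈ K) (hLH : ∀ h : H, h ∈ LH ↔ (h : G) ∈ L) :
    ∑ χ : IrrCharacter G, (coeff hφ χ : ℂ) *
        ((∑ u ∈ K, (χ : G → ℂ) u) * (∑ v ∈ L, (χ : G → ℂ) v) / (χ : G → ℂ) 1) =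
      (Nat.card G : ℂ) / (Nat.card H : ℂ) * ∑ u ∈ KH, ∑ v ∈ LH, φ (u * v) := by
  rw [← sum_two_indFun hX hs K L hK hL hKi hLi KH LH hKH hLH]
  simp only [← sum_two_irr _ K L hK hL]
  simp only [indFun_apply_eq_sum hφ, Finset.mul_sum]
  rw [Finset.sum_comm]
  exact Finset.sum_congr rfl fun u _ => Finset.sum_comm

end Cfsg.Agent.Lib.Higman3
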